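import Mathlib

/-!
Counting numbers for the classes of `SU(n, q)`.
-/

set_option autoImplicit false

namespace SUClassCount2481

/-- monic self-dual polynomials of degree `m` -/
def cu (q : ℕ) : ℕ → ℕ
  | 0 => 1
  | k + 1 => (q + 1) * q ^ k

/-- weighted tuples with the allowed parts among `2, ..., j + 1` -/
def rc (q : ℕ) (a : ℕ → Bool) : ℕ → ℕ → ℕ
  | 0, i => if i = 0 then 1 else 0
  | j + 1, i => if a (j + 2) then
      ∑ m ∈ Finset.range (i / (j + 2) + 1), cu q m * rc q a j (i - (j + 2) * m) else rc q a j i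

variable {q : ℕ} {a : ℕ → Bool}

lemma rc_zero_right : ∀ j, rc q a j 0 = 1
  | 0 => by simp [rc]
  | j + 1 => by
    rw [rc]
    split_ifs
    · rw [Nat.zero_div, zero_add, Finset.sum_range_one]
      simp [cu, rc_zero_right j]
    · exact rc_zero_right j

lemma rc_of_lt {j i : ℕ} (h : i < j + 2) : rc q a (j + 1) i = rc q a j i := by
  rw [rc]
  split_ifs
  · rw [Nat.div_eq_of_lt h, zero_add, Finset.sum_range_one]
    simp [cu]
  · rfl

/-- the factor of the part `k + 1` -/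
def fac (y : ℚ) (k : ℕ) : ℚ := 1 + (1 + y) * y ^ k / (1 - y ^ k)

/-- the product of the factors of the allowed parts -/
def prodFac (y : ℚ) (a : ℕ → Bool) (j : ℕ) : ℚ :=
  ∏ l ∈ Finset.range j, if a (l + 2) then fac y (l + 1) else 1

lemma prodFac_succ (y : ℚ) (j : ℕ) :
    prodFac y a (j + 1) = prodFac y a j * if a (j + 2) then fac y (j + 1) else 1 :=
  Finset.prod_range_succ _ _

section

variable {y : ℚ} (hy0 : 0 < y) (hy1 : y ≤ 1 / 2)

include hy0 hy1

lemma pow_lt_one' (k : ℕ) (hk : 1 ≤ k) : y ^ k < 1 :=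
  pow_lt_one₀ hy0.le (by linarith) (by omega)

lemma one_le_fac (k : ℕ) (hk : 1 ≤ k) : 1 ≤ fac y k := by
  have h := pow_lt_one' hy0 hy1 k hk
  rw [fac, le_add_iff_nonneg_right]
  exact div_nonneg (by positivity) (by linarith)

lemma prodFac_pos (j : ℕ) : 1 ≤ prodFac y a j := by
  induction j with
  | zero => simp [prodFac]
  | succ j ih =>
    rw [prodFac_succ]
    split_ifs
    · exact one_le_mul_of_one_le_of_one_le ih (one_le_fac hy0 hy1 _ (by omega))
    · rw [mul_one]; exact ih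

lemma prodFac_mono {i j : ℕ} (h : i ≤ j) : prodFac y a i ≤ prodFac y a j := by
  induction h with
  | refl => exact le_rfl
  | step _ ih =>
    refine ih.trans ?_
    rw [prodFac_succ]
    split_ifs
    · exact le_mul_of_one_le_right (zero_le_one.trans (prodFac_pos hy0 hy1 _)) (one_le_fac hy0 hy1 _ (by omega))
    · rw [mul_one]

end

lemma sum_cu_le (hq : 2 ≤ q) (k M : ℕ) (hk : 1 ≤ k) :
    ∑ m ∈ Finset.range M, (cu q m : ℚ) * (1 / (q : ℚ)) ^ ((k + 1) * m) ≤ fac (1 / q) k := by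
  have hq' : (2 : ℚ) ≤ q := by exact_mod_cast hq
  have hy0 : (0 : ℚ) < 1 / q := by positivity
  have hy1 : 1 / (q : ℚ) ≤ 1 / 2 := one_div_le_one_div_of_le (by norm_num) hq'
  have hz := pow_lt_one' hy0 hy1 k hk
  rcases M with _ | M
  · simpa using zero_le_one.trans (one_le_fac hy0 hy1 k hk)
  set y : ℚ := 1 / q with hy
  have hqy : (q : ℚ) * y = 1 := by rw [hy]; field_simp
  have hterm : ∀ m : ℕ, (cu q (m + 1) : ℚ) * y ^ ((k + 1) * (m + 1)) = (1 + y) * (y ^ k) ^ (m + 1) := by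
    intro m
    rw [cu, Nat.cast_mul, Nat.cast_pow, Nat.cast_add, Nat.cast_one]
    calc ((q : ℚ) + 1) * q ^ m * y ^ ((k + 1) * (m + 1))
        = ((q : ℚ) * y + y) * ((q : ℚ) * y) ^ m * (y ^ k) ^ (m + 1) := by ring
      _ = _ := by rw [hqy, one_pow, mul_one]
  rw [Finset.sum_range_succ', fac]
  simp only [hterm]
  simp only [cu, Nat.cast_one, mul_zero, pow_zero, one_mul]
  rw [add_comm, add_le_add_iff_left, ← Finset.mul_sum, mul_div_assoc]
  refine mul_le_mul_of_nonneg_left ?_ (by positivity)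
  rw [le_div_iff₀ (by linarith)]
  simp only [pow_succ _ _, ← Finset.sum_mul]
  rw [mul_comm (∑ i ∈ _, _), mul_assoc, geom_sum_mul_neg]
  exact mul_le_of_le_one_right (by positivity) (sub_le_self _ (by positivity))

lemma sum_rc_le (hq : 2 ≤ q) : ∀ j N,
    ∑ i ∈ Finset.range N, (rc q a j i : ℚ) * (1 / (q : ℚ)) ^ i ≤ prodFac (1 / q) a j
  | 0, N => by
    rw [prodFac, Finset.range_zero, Finset.prod_empty]
    rcases N with _ | N
    · simp
    · rw [Finset.sum_range_succ']
      simp [rc]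
  | j + 1, N => by
    have hq' : (2 : ℚ) ≤ q := by exact_mod_cast hq
    have hy0 : (0 : ℚ) < 1 / q := by positivity
    have hy1 : 1 / (q : ℚ) ≤ 1 / 2 := one_div_le_one_div_of_le (by norm_num) hq'
    have ih := sum_rc_le hq j N
    rw [prodFac_succ]
    by_cases ha : a (j + 2) = true
    · simp only [rc, if_pos ha, Nat.cast_sum, Finset.sum_mul]
      set y : ℚ := 1 / q
      let f : ℕ × ℕ → ℚ := fun z => ((cu q z.1 : ℚ) * y ^ ((j + 2) * z.1)) * ((rc q a j z.2 : ℚ) * y ^ z.2)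
      let φ : (Σ _ : ℕ, ℕ) → ℕ × ℕ := fun x => (x.2, x.1 - (j + 2) * x.2)
      have hb : ∀ x ∈ (Finset.range N).sigma fun i => Finset.range (i / (j + 2) + 1),
          (j + 2) * x.2 ≤ x.1 ∧ x.1 < N := by
        intro x hx
        simp only [Finset.mem_sigma, Finset.mem_range, Nat.lt_succ_iff,
          Nat.le_div_iff_mul_le (show 0 < j + 2 by omega)] at hx
        exact ⟨by rw [mul_comm]; exact hx.2, hx.1⟩
      calc ∑ i ∈ Finset.range N, ∑ m ∈ Finset.range (i / (j + 2) + 1),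
              ((cu q m * rc q a j (i - (j + 2) * m) : ℕ) : ℚ) * y ^ i
          = ∑ x ∈ (Finset.range N).sigma (fun i => Finset.range (i / (j + 2) + 1)), f (φ x) := by
            rw [Finset.sum_sigma' (Finset.range N)]
            refine Finset.sum_congr rfl fun x hx => ?_
            have := hb x hx
            simp only [f, φ, Nat.cast_mul]
            conv_lhs => rw [show x.1 = (j + 2) * x.2 + (x.1 - (j + 2) * x.2) by omega, pow_add]
            rw [show (j + 2) * x.2 + (x.1 - (j + 2) * x.2) - (j + 2) * x.2 = x.1 - (j + 2) * x.2 by omega]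
            ring
        _ = ∑ z ∈ ((Finset.range N).sigma (fun i => Finset.range (i / (j + 2) + 1))).image φ, f z := by
            rw [Finset.sum_image]
            intro x hx x' hx' h
            have h1 := hb x hx
            have h2 := hb x' hx'
            simp only [φ, Prod.mk.injEq] at h
            obtain ⟨i, m⟩ := x
            obtain ⟨i', m'⟩ := x'
            simp only at h h1 h2
            obtain rfl := h.1
            obtain rfl : i = i' := by omega
            rfl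
        _ ≤ ∑ z ∈ Finset.range N ×ˢ Finset.range N, f z := by
            refine Finset.sum_le_sum_of_subset_of_nonneg ?_ fun z _ _ => by positivity
            intro z hz
            obtain ⟨x, hx, rfl⟩ := Finset.mem_image.1 hz
            have h1 := hb x hx
            have h2 : x.2 ≤ (j + 2) * x.2 := Nat.le_mul_of_pos_left _ (by omega)
            simp only [φ, Finset.mem_product, Finset.mem_range]
            omega
        _ = (∑ m ∈ Finset.range N, (cu q m : ℚ) * y ^ ((j + 2) * m)) *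
              ∑ i ∈ Finset.range N, (rc q a j i : ℚ) * y ^ i := by
            rw [Finset.sum_mul_sum, Finset.sum_product]
        _ ≤ fac y (j + 1) * prodFac y a j :=
            mul_le_mul (sum_cu_le hq (j + 1) N (by omega)) ih
              (Finset.sum_nonneg fun i _ => by positivity)
              (zero_le_one.trans (one_le_fac hy0 hy1 _ (by omega)))
        _ = _ := mul_comm _ _
    · simp only [rc, if_neg ha, mul_one]
      exact ih

/-- all parts -/
def allP : ℕ → Bool := fun _ => true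

/-- the parts at least three -/
def geP : ℕ → Bool := fun k => decide (3 ≤ k)

/-- the multiples of three -/
def threeP : ℕ → Bool := fun k => decide (3 ∣ k)

lemma fac_le_large {y : ℚ} (hy0 : 0 < y) (hy : y ≤ 1 / 3) {k : ℕ} (hk : 3 ≤ k) :
    fac y k ≤ 1 + 14 / 10 * y ^ k := by
  have h3 : y ^ k ≤ (1 / 3) ^ 3 :=
    (pow_le_pow_of_le_one hy0.le (by linarith) hk).trans (pow_le_pow_left₀ hy0.le hy 3)
  have hp : 0 ≤ y ^ k := by positivity
  rw [fac, add_le_add_iff_left, mul_comm (1 + y), mul_div_assoc, mul_comm (14 / 10 : ℚ)]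
  refine mul_le_mul_of_nonneg_left ?_ hp
  rw [div_le_iff₀ (by norm_num at h3; linarith)]
  norm_num at h3
  linarith

lemma prodFac_all_le {y : ℚ} (hy0 : 0 < y) (hy : y ≤ 1 / 3) (j : ℕ) :
    prodFac y allP j ≤ 1 + 7 / 2 * y := by
  have hy2 : y ≤ 1 / 2 := by linarith
  suffices h : ∀ j, 2 ≤ j → prodFac y allP j ≤ 1 + (7 / 2 - 54 / 10 * (1 / 3 : ℚ) ^ j) * y by
    have h' := h (j + 2) (by omega)
    have : 0 ≤ (1 / 3 : ℚ) ^ (j + 2) * y := by positivity
    exact (prodFac_mono hy0 hy2 (Nat.le_add_right j 2)).trans (by nlinarith)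
  intro j hj
  induction j, hj using Nat.le_induction with
  | base =>
    simp only [prodFac, allP, Finset.prod_range_succ, Finset.prod_range_zero, one_mul, if_true, fac]
    have e1 : (1 + y) * y ^ (0 + 1) / (1 - y ^ (0 + 1)) ≤ 2 * y := by
      simp only [zero_add, pow_one]
      rw [div_le_iff₀ (by linarith)]; nlinarith
    have e2 : (1 + y) * y ^ (1 + 1) / (1 - y ^ (1 + 1)) ≤ 3 / 2 * y ^ 2 := by
      have hy' : y ^ (1 + 1) < 1 := pow_lt_one' hy0 hy2 2 (by omega)
      rw [div_le_iff₀ (by linarith)]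
      have h1 : (1 + y) ≤ 3 / 2 * (1 - y ^ 2) := by nlinarith
      calc (1 + y) * y ^ (1 + 1) ≤ 3 / 2 * (1 - y ^ 2) * y ^ (1 + 1) :=
            mul_le_mul_of_nonneg_right h1 (by positivity)
        _ = _ := by ring
    have e0 : 0 ≤ (1 + y) * y ^ (1 + 1) / (1 - y ^ (1 + 1)) := div_nonneg (by positivity)
      (by have := pow_lt_one' hy0 hy2 (1 + 1) (by omega); linarith)
    calc (1 + (1 + y) * y ^ (0 + 1) / (1 - y ^ (0 + 1))) * (1 + (1 + y) * y ^ (1 + 1) / (1 - y ^ (1 + 1)))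
        ≤ (1 + 2 * y) * (1 + 3 / 2 * y ^ 2) := by gcongr
      _ ≤ _ := by nlinarith
  | succ j hj ih =>
    rw [prodFac_succ, if_pos (show allP (j + 2) = true from rfl)]
    have hf := fac_le_large hy0 hy (k := j + 1) (by omega)
    have hp : y ^ (j + 1) ≤ y * (1 / 3) ^ j := by
      rw [pow_succ']
      exact mul_le_mul_of_nonneg_left (pow_le_pow_left₀ hy0.le hy j) hy0.le
    have hb : 0 ≤ (1 / 3 : ℚ) ^ j := by positivity
    have hc : prodFac y allP j ≤ 1 + 7 / 2 * (1 / 3) := ih.trans (by nlinarith)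
    calc prodFac y allP j * fac y (j + 1)
        ≤ prodFac y allP j * (1 + 14 / 10 * y ^ (j + 1)) :=
          mul_le_mul_of_nonneg_left hf (zero_le_one.trans (prodFac_pos hy0 hy2 _))
      _ = prodFac y allP j + 14 / 10 * (prodFac y allP j * y ^ (j + 1)) := by ring
      _ ≤ (1 + (7 / 2 - 54 / 10 * (1 / 3 : ℚ) ^ j) * y) +
            14 / 10 * ((1 + 7 / 2 * (1 / 3)) * (y * (1 / 3) ^ j)) := by gcongr
      _ ≤ _ := by rw [pow_succ (1 / 3 : ℚ)]; nlinarith [mul_nonneg hy0.le hb]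

lemma prodFac_ge_le {y : ℚ} (hy0 : 0 < y) (hy : y ≤ 1 / 3) (j : ℕ) :
    prodFac y geP j ≤ 1 + 24 / 10 * y ^ 2 := by
  have hy2 : y ≤ 1 / 2 := by linarith
  suffices h : ∀ j, 2 ≤ j → prodFac y geP j ≤ 1 + (24 / 10 - 81 / 10 * (1 / 3 : ℚ) ^ j) * y ^ 2 by
    have h' := h (j + 2) (by omega)
    have : 0 ≤ (1 / 3 : ℚ) ^ (j + 2) * y ^ 2 := by positivity
    exact (prodFac_mono hy0 hy2 (Nat.le_add_right j 2)).trans (by nlinarith)
  intro j hj
  induction j, hj using Nat.le_induction with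
  | base =>
    simp only [prodFac, geP, Finset.prod_range_succ, Finset.prod_range_zero, fac]
    norm_num
    rw [div_le_iff₀ (by nlinarith)]
    have h1 : (1 + y) ≤ 3 / 2 * (1 - y ^ 2) := by nlinarith
    nlinarith [mul_le_mul_of_nonneg_right h1 (sq_nonneg y)]
  | succ j hj ih =>
    rw [prodFac_succ, if_pos (by simp [geP]; omega)]
    have hf := fac_le_large hy0 hy (k := j + 1) (by omega)
    have hb : 0 ≤ (1 / 3 : ℚ) ^ j := by positivity
    have hp : y ^ (j + 1) ≤ y ^ 2 * (3 * (1 / 3) ^ j) := by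
      rw [show j + 1 = 2 + (j - 1) by omega, pow_add]
      refine mul_le_mul_of_nonneg_left ((pow_le_pow_left₀ hy0.le hy _).trans (le_of_eq ?_)) (by positivity)
      obtain ⟨i, rfl⟩ : ∃ i, j = i + 1 := ⟨j - 1, by omega⟩
      simp [pow_succ]; ring
    have hy9 : y ^ 2 ≤ 1 / 9 := by nlinarith
    have hc : prodFac y geP j ≤ 1 + 24 / 10 * (1 / 9) := ih.trans (by nlinarith)
    calc prodFac y geP j * fac y (j + 1)
        ≤ prodFac y geP j * (1 + 14 / 10 * y ^ (j + 1)) :=
          mul_le_mul_of_nonneg_left hf (zero_le_one.trans (prodFac_pos hy0 hy2 _))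
      _ = prodFac y geP j + 14 / 10 * (prodFac y geP j * y ^ (j + 1)) := by ring
      _ ≤ (1 + (24 / 10 - 81 / 10 * (1 / 3 : ℚ) ^ j) * y ^ 2) +
            14 / 10 * ((1 + 24 / 10 * (1 / 9)) * (y ^ 2 * (3 * (1 / 3) ^ j))) := by gcongr
      _ ≤ _ := by rw [pow_succ (1 / 3 : ℚ)]; nlinarith [mul_nonneg (sq_nonneg y) hb]

lemma half_step (l : ℕ) (C P : ℚ) (hl : 2 ≤ l) (hC : 0 ≤ C) (hP : P ≤ C * (1 - 3 / 2 * (1 / 2) ^ l)) :
    P * fac (1 / 2) (l + 1) ≤ C * (1 - 3 / 2 * (1 / 2) ^ (l + 1)) := by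
  set z : ℚ := (1 / 2) ^ (l + 1) with hz
  have hz2 : (1 / 2 : ℚ) ^ l = 2 * z := by rw [hz, pow_succ]; ring
  have hz0 : 0 < z := by positivity
  have hz1 : z < 1 := pow_lt_one₀ (by norm_num) (by norm_num) (by omega)
  rw [hz2] at hP
  have hf : fac (1 / 2) (l + 1) * (1 - z) = 1 + z / 2 := by
    rw [fac, ← hz, add_mul, one_mul, div_mul_cancel₀ _ (by linarith)]
    ring
  have h1 : 0 ≤ fac (1 / 2) (l + 1) := zero_le_one.trans (one_le_fac (by norm_num) le_rfl _ (by omega))
  refine (mul_le_mul_of_nonneg_right hP h1).trans ?_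
  rw [mul_assoc]
  refine mul_le_mul_of_nonneg_left ?_ hC
  refine le_of_mul_le_mul_right ?_ (show 0 < 1 - z by linarith)
  rw [mul_assoc, hf]
  nlinarith

lemma prodFac_half_all_le (j : ℕ) : prodFac (1 / 2) allP j ≤ 6 := by
  suffices h : ∀ j, 3 ≤ j → prodFac (1 / 2) allP j ≤ 6 * (1 - 3 / 2 * (1 / 2 : ℚ) ^ j) by
    refine (prodFac_mono (by norm_num) le_rfl (Nat.le_add_right j 3)).trans ((h (j + 3) (by omega)).trans ?_)
    have : 0 ≤ (1 / 2 : ℚ) ^ (j + 3) := by positivity
    nlinarith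
  intro j hj
  induction j, hj using Nat.le_induction with
  | base => norm_num [prodFac, allP, Finset.prod_range_succ, fac]
  | succ j hj ih =>
    rw [prodFac_succ, if_pos (show allP (j + 2) = true from rfl)]
    exact half_step j 6 _ (by omega) (by norm_num) ih

lemma prodFac_half_three_le (j : ℕ) : prodFac (1 / 2) threeP j ≤ 8 / 5 := by
  suffices h : ∀ j, 8 ≤ j → prodFac (1 / 2) threeP j ≤ 8 / 5 * (1 - 3 / 2 * (1 / 2 : ℚ) ^ j) by
    refine (prodFac_mono (by norm_num) le_rfl (Nat.le_add_right j 8)).trans ((h (j + 8) (by omega)).trans ?_)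
    have : 0 ≤ (1 / 2 : ℚ) ^ (j + 8) := by positivity
    nlinarith
  intro j hj
  induction j, hj using Nat.le_induction with
  | base => norm_num [prodFac, threeP, Finset.prod_range_succ, fac]
  | succ j hj ih =>
    rw [prodFac_succ]
    split_ifs
    · exact half_step j (8 / 5) _ (by omega) (by norm_num) ih
    · rw [mul_one]
      refine ih.trans (mul_le_mul_of_nonneg_left ?_ (by norm_num))
      have : 0 ≤ (1 / 2 : ℚ) ^ j := by positivity
      rw [pow_succ]
      linarith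

lemma rc_three_two_le (n : ℕ) (hn : 2 ≤ n) :
    (rc 2 threeP (n - 1) n : ℚ) * (1 / 2) ^ n ≤ 3 / 8 := by
  obtain ⟨e, rfl⟩ : ∃ e, n = e + 1 := ⟨n - 1, by omega⟩
  rw [Nat.add_sub_cancel]
  rcases (show e = 1 ∨ e = 2 ∨ 3 ≤ e by omega) with rfl | rfl | he
  · norm_num [rc, threeP]
  · norm_num [rc, threeP, cu, Finset.sum_range_succ]
  · have h3 : ∀ j, 2 ≤ j → rc 2 threeP j 3 = 3 := by
      intro j hj
      induction j, hj using Nat.le_induction with
      | base => norm_num [rc, threeP, cu, Finset.sum_range_succ]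
      | succ j hj ih => rw [rc_of_lt (by omega), ih]
    have h := sum_rc_le (a := threeP) (le_refl 2) e (e + 2)
    rw [Nat.cast_ofNat, Finset.sum_range_succ] at h
    have h5 := prodFac_half_three_le e
    have h4 : (rc 2 threeP e 0 : ℚ) * (1 / 2) ^ 0 + (rc 2 threeP e 3 : ℚ) * (1 / 2) ^ 3 ≤
        ∑ i ∈ Finset.range (e + 1), (rc 2 threeP e i : ℚ) * (1 / 2) ^ i := by
      rw [← Finset.sum_pair (f := fun i => (rc 2 threeP e i : ℚ) * (1 / 2) ^ i) (show (0 : ℕ) ≠ 3 by omega)]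
      refine Finset.sum_le_sum_of_subset_of_nonneg ?_ fun i _ _ => by positivity
      intro i hi
      simp at hi ⊢
      omega
    rw [rc_zero_right, h3 e (by omega)] at h4
    norm_num at h4
    norm_num at h ⊢
    linarith

/-- the numerical bound for `q ≥ 3` -/
theorem total_le_three {n : ℕ} (hq : 3 ≤ q) (hn : 1 ≤ n) :
    100 * (∑ i ∈ Finset.range n, rc q allP (n - 1) i * cu q (n - i) + 4 * rc q allP (n - 1) n +
      (q + 1) ^ 2 * rc q geP (n - 1) n) ≤ 826 * ((q + 1) * q ^ (n - 1)) := by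
  rw [← Nat.cast_le (α := ℚ)]
  simp only [Nat.cast_mul, Nat.cast_add, Nat.cast_sum, Nat.cast_pow, Nat.cast_ofNat, Nat.cast_one]
  have hq' : (3 : ℚ) ≤ q := by exact_mod_cast hq
  set y : ℚ := 1 / q with hy
  have hy0 : 0 < y := by positivity
  have hy1 : y ≤ 1 / 3 := one_div_le_one_div_of_le (by norm_num) hq'
  have hqy : (q : ℚ) * y = 1 := by rw [hy]; field_simp
  have hpow : ∀ i ≤ n, (q : ℚ) ^ n * y ^ i = q ^ (n - i) := by
    intro i hi
    conv_lhs => rw [show n = n - i + i by omega]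
    rw [pow_add, mul_assoc, ← mul_pow, hqy, one_pow, mul_one]
  set Q : ℚ := (q + 1) * q ^ (n - 1) with hQ
  have hQ0 : 0 ≤ Q := by positivity
  have hsum : ∑ i ∈ Finset.range n, (rc q allP (n - 1) i : ℚ) * cu q (n - i) =
      Q * ∑ i ∈ Finset.range n, (rc q allP (n - 1) i : ℚ) * y ^ i := by
    rw [Finset.mul_sum]
    refine Finset.sum_congr rfl fun i hi => ?_
    rw [Finset.mem_range] at hi
    obtain ⟨d, hd⟩ : ∃ d, n - i = d + 1 := ⟨n - i - 1, by omega⟩
    have h1 := hpow i hi.le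
    rw [hd, show n = (n - 1) + 1 by omega, pow_succ, pow_succ] at h1
    rw [hd, cu, hQ]
    push_cast
    have : (q : ℚ) ^ (n - 1) * y ^ i = q ^ d :=
      mul_right_cancel₀ (show (q : ℚ) ≠ 0 by positivity) (by linarith [h1])
    rw [← this]
    ring
  have hlast : ∀ r : ℕ, (r : ℚ) * (q + 1) = Q * q * ((r : ℚ) * y ^ n) := by
    intro r
    have h1 := hpow n le_rfl
    rw [Nat.sub_self, pow_zero, show n = (n - 1) + 1 by omega, pow_succ] at h1
    calc (r : ℚ) * (q + 1) = r * (q + 1) * ((q : ℚ) ^ (n - 1) * q * y ^ (n - 1 + 1)) := by rw [h1, mul_one]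
      _ = _ := by rw [show n - 1 + 1 = n by omega, hQ]; ring
  have hP := (sum_rc_le (a := allP) (show 2 ≤ q by omega) (n - 1) (n + 1)).trans (prodFac_all_le hy0 hy1 _)
  have hS := (sum_rc_le (a := geP) (show 2 ≤ q by omega) (n - 1) (n + 1)).trans (prodFac_ge_le hy0 hy1 _)
  rw [← hy, Finset.sum_range_succ] at hP hS
  have hS1 : (1 : ℚ) ≤ ∑ i ∈ Finset.range n, (rc q geP (n - 1) i : ℚ) * y ^ i := by
    refine le_trans ?_ (Finset.single_le_sum (fun i _ => by positivity) (Finset.mem_range.2 (show 0 < n by omega)))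
    simp [rc_zero_right]
  have hP1 : (1 : ℚ) ≤ ∑ i ∈ Finset.range n, (rc q allP (n - 1) i : ℚ) * y ^ i := by
    refine le_trans ?_ (Finset.single_le_sum (fun i _ => by positivity) (Finset.mem_range.2 (show 0 < n by omega)))
    simp [rc_zero_right]
  have hl1 := hlast (rc q allP (n - 1) n)
  have hl2 := hlast (rc q geP (n - 1) n)
  set A := ∑ i ∈ Finset.range n, (rc q allP (n - 1) i : ℚ) * y ^ i
  set r := (rc q allP (n - 1) n : ℚ)
  set s := (rc q geP (n - 1) n : ℚ)
  set R := r * y ^ n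
  set S := s * y ^ n
  rw [hsum]
  refine le_of_mul_le_mul_right ?_ (show (0 : ℚ) < q + 1 by positivity)
  have hR : R ≤ 7 / 2 * y := by linarith
  have hS' : S ≤ 24 / 10 * y ^ 2 := by linarith
  have key : A * (q + 1) + 4 * q * R + (q + 1) ^ 2 * q * S ≤ 826 / 100 * (q + 1) := by
    have h1 : (3 * (q : ℚ) - 1) * R ≤ (3 * q - 1) * (7 / 2 * y) := mul_le_mul_of_nonneg_left hR (by linarith)
    have h2 : (q + 1 : ℚ) * (A + R) ≤ (q + 1) * (1 + 7 / 2 * y) := mul_le_mul_of_nonneg_left hP (by linarith)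
    have h3 : (q + 1 : ℚ) ^ 2 * q * S ≤ (q + 1) ^ 2 * q * (24 / 10 * y ^ 2) :=
      mul_le_mul_of_nonneg_left hS' (by positivity)
    have h4 : (q + 1 : ℚ) ^ 2 * q * (24 / 10 * y ^ 2) = 24 / 10 * ((q + 1) * (1 + y)) := by
      rw [show (q + 1 : ℚ) ^ 2 * q * (24 / 10 * y ^ 2) =
        24 / 10 * ((q + 1) * ((q : ℚ) * y) * ((q : ℚ) * y + y)) by ring, hqy, mul_one]
    have h5 : 24 / 10 * (((q : ℚ) + 1) * (1 + y)) ≤ 24 / 10 * ((q + 1) * (4 / 3)) :=
      mul_le_mul_of_nonneg_left (mul_le_mul_of_nonneg_left (by linarith) (by linarith)) (by norm_num)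
    linarith [h1, h2, h3, h5, hqy]
  calc 100 * (Q * A + 4 * r + (q + 1) ^ 2 * s) * (q + 1)
      = 100 * Q * (A * (q + 1) + 4 * q * R + (q + 1) ^ 2 * q * S) := by
        linear_combination 400 * hl1 + 100 * (q + 1) ^ 2 * hl2
    _ ≤ 100 * Q * (826 / 100 * (q + 1)) := mul_le_mul_of_nonneg_left key (by positivity)
    _ = _ := by rw [hQ]; ring

/-- the numerical bound for `q = 2` -/
theorem total_le_two {n : ℕ} (hn : 2 ≤ n) :
    100 * (∑ i ∈ Finset.range n, rc 2 allP (n - 1) i * cu 2 (n - i) + rc 2 allP (n - 1) n +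
      8 * rc 2 threeP (n - 1) n) ≤ 826 * ((2 + 1) * 2 ^ (n - 1)) := by
  rw [← Nat.cast_le (α := ℚ)]
  simp only [Nat.cast_mul, Nat.cast_add, Nat.cast_sum, Nat.cast_pow, Nat.cast_ofNat, Nat.cast_one]
  have hsum : ∑ i ∈ Finset.range n, (rc 2 allP (n - 1) i : ℚ) * (cu 2 (n - i) : ℚ) =
      3 / 2 * 2 ^ n * ∑ i ∈ Finset.range n, (rc 2 allP (n - 1) i : ℚ) * (1 / 2) ^ i := by
    rw [Finset.mul_sum]
    refine Finset.sum_congr rfl fun i hi => ?_
    rw [Finset.mem_range] at hi
    obtain ⟨d, hd⟩ : ∃ d, n = d + 1 + i := ⟨n - i - 1, by omega⟩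
    rw [show n - i = d + 1 by omega, cu, hd, pow_add, pow_succ, one_div_pow]
    push_cast
    field_simp
  have hpow : ∀ x : ℚ, x = 2 ^ n * (x * (1 / 2) ^ n) := fun x => by
    rw [one_div_pow]; field_simp
  have hP := sum_rc_le (a := allP) (le_refl 2) (n - 1) (n + 1)
  rw [Nat.cast_ofNat, Finset.sum_range_succ] at hP
  have h6 := prodFac_half_all_le (n - 1)
  have hU := rc_three_two_le n hn
  rw [hsum]
  have h1 := hpow (rc 2 allP (n - 1) n : ℚ)
  have h2 := hpow (rc 2 threeP (n - 1) n : ℚ)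
  have h3 : ((2 : ℚ) + 1) * 2 ^ (n - 1) = 3 / 2 * 2 ^ n := by
    conv_rhs => rw [show n = n - 1 + 1 by omega, pow_succ]
    ring
  set T : ℚ := 2 ^ n with hT
  have hT0 : 0 < T := by rw [hT]; positivity
  set A := ∑ i ∈ Finset.range n, (rc 2 allP (n - 1) i : ℚ) * (1 / 2) ^ i
  set R := (rc 2 allP (n - 1) n : ℚ) * (1 / 2) ^ n
  set U := (rc 2 threeP (n - 1) n : ℚ) * (1 / 2) ^ n
  have hR : 0 ≤ R := by positivity
  rw [h3, h1, h2]
  calc 100 * (3 / 2 * T * A + T * R + 8 * (T * U)) = T * (150 * A + 100 * R + 800 * U) := by ring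
    _ ≤ T * 1239 := mul_le_mul_of_nonneg_left (by linarith) hT0.le
    _ = _ := by ring

end SUClassCount2481
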