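import Mathlib
import Cfsg.Agent.Lib.Forms.HermStd
import Cfsg.Agent.Lib.Classical.UnitaryBasic
import Cfsg.Agent.GLClassCount.SLFibre
import Cfsg.Agent.SUClassCount.Arith

/-!
Self-dual polynomials over the field with `q ^ 2` elements.
-/

set_option autoImplicit false
set_option linter.unusedSectionVars false

namespace SUClassCount2481

open Polynomial GLClassCount2478 Cfsg.Agent.Forms Cfsg.Agent.Classical

variable {F : Type*} [Field F] [Fintype F] {q : ℕ} (hF : Fintype.card F = q ^ 2)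

include hF

lemma q_pos : 2 ≤ q := HermStd.one_lt_q hF

lemma natCard_kerSub : Nat.card (powMonoidHom (q - 1) : Fˣ →* Fˣ).ker = q - 1 := by
  rw [IsCyclic.card_powMonoidHom_ker, Unitary.natCard_units_F hF,
    Nat.gcd_mul_right_left]

lemma range_powSub : (powMonoidHom (q - 1) : Fˣ →* Fˣ).range = (powMonoidHom (q + 1) : Fˣ →* Fˣ).ker := by
  have hq := q_pos hF
  haveI : Finite Fˣ := inferInstance
  refine Subgroup.eq_of_le_of_card_ge ?_ ?_
  · rintro _ ⟨c, rfl⟩
    show (c ^ (q - 1)) ^ (q + 1) = 1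
    rw [← pow_mul, ← Unitary.natCard_units_F hF, pow_card_eq_one']
  · rw [Unitary.natCard_normOne hF]
    have h := (powMonoidHom (q - 1) : Fˣ →* Fˣ).ker.index_mul_card
    rw [Subgroup.index_ker, natCard_kerSub hF, Unitary.natCard_units_F hF,
      mul_comm (q - 1)] at h
    exact (Nat.eq_of_mul_eq_mul_right (by omega) h).ge

lemma exists_root_sub {ζ : F} (hζ : ζ ^ (q + 1) = 1) : ∃ s : F, s ≠ 0 ∧ s ^ (q - 1) = ζ := by
  have h0 : ζ ≠ 0 := fun h => by simp [h] at hζ
  have h : Units.mk0 ζ h0 ∈ (powMonoidHom (q + 1) : Fˣ →* Fˣ).ker := Units.ext (by simpa using hζ)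
  rw [← range_powSub hF] at h
  obtain ⟨s, hs⟩ := h
  exact ⟨s, s.ne_zero, by simpa using congrArg Units.val hs⟩

lemma neg_one_norm : (-1 : F) ^ (q + 1) = 1 := by
  have h := map_neg (HermStd.qHom hF) 1
  rw [HermStd.qHom_apply, map_one] at h
  rw [pow_succ, h]
  ring

/-- the dual polynomial -/
noncomputable def cd (f : F[X]) : F[X] := by
  classical exact normalize ((f.map (HermStd.qHom hF)).reverse)

lemma cd_mul (f g : F[X]) : cd hF (f * g) = cd hF f * cd hF g := by
  classical
  simp only [cd, Polynomial.map_mul, reverse_mul_of_domain, normalize_mul]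

lemma cd_one : cd hF 1 = 1 := by
  classical
  have h : (1 : F[X]).reverse = 1 := by rw [← C_1, reverse_C]
  simp only [cd, Polynomial.map_one, h, normalize_one]

lemma cd_prod {ι : Type*} (s : Finset ι) (f : ι → F[X]) : cd hF (∏ i ∈ s, f i) = ∏ i ∈ s, cd hF (f i) := by
  classical
  induction s using Finset.induction_on with
  | empty => simp [cd_one]
  | insert a t ha ih => rw [Finset.prod_insert ha, Finset.prod_insert ha, cd_mul, ih]

lemma cd_eq {f : F[X]} (h0 : f.coeff 0 ≠ 0) :
    cd hF f = (f.map (HermStd.qHom hF)).reverse * C (((f.coeff 0) ^ q)⁻¹) := by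
  classical
  have ht : (f.map (HermStd.qHom hF)).natTrailingDegree = 0 := natTrailingDegree_eq_zero.2 (Or.inr (by
    rw [coeff_map, HermStd.qHom_apply]; exact pow_ne_zero _ h0))
  rw [cd, normalize_apply, coe_normUnit, reverse_leadingCoeff, trailingCoeff, ht, coeff_map,
    HermStd.qHom_apply]
  congr 2
  rw [CommGroupWithZero.coe_normUnit _ (pow_ne_zero _ h0)]

lemma coeff_cd {f : F[X]} (h0 : f.coeff 0 ≠ 0) {i : ℕ} (hi : i ≤ f.natDegree) :
    (cd hF f).coeff i = (f.coeff (f.natDegree - i)) ^ q * ((f.coeff 0) ^ q)⁻¹ := by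
  rw [cd_eq hF h0, coeff_mul_C, coeff_reverse, natDegree_map, revAt_le hi, coeff_map, HermStd.qHom_apply]

lemma natDegree_cd {f : F[X]} (h0 : f.coeff 0 ≠ 0) : (cd hF f).natDegree = f.natDegree := by
  have ht : (f.map (HermStd.qHom hF)).natTrailingDegree = 0 := natTrailingDegree_eq_zero.2 (Or.inr (by
    rw [coeff_map, HermStd.qHom_apply]; exact pow_ne_zero _ h0))
  rw [cd_eq hF h0, natDegree_mul_C (inv_ne_zero (pow_ne_zero _ h0)), reverse_natDegree, natDegree_map, ht,
    Nat.sub_zero]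

lemma cd_monic {f : F[X]} (h0 : f.coeff 0 ≠ 0) : (cd hF f).Monic := by
  rw [Monic, leadingCoeff, natDegree_cd hF h0, coeff_cd hF h0 le_rfl, Nat.sub_self,
    mul_inv_cancel₀ (pow_ne_zero _ h0)]

lemma cd_coeff_zero {f : F[X]} (hm : f.Monic) (h0 : f.coeff 0 ≠ 0) : (cd hF f).coeff 0 ≠ 0 := by
  rw [coeff_cd hF h0 (Nat.zero_le _), Nat.sub_zero, hm.coeff_natDegree, one_pow, one_mul]
  exact inv_ne_zero (pow_ne_zero _ h0)

lemma cd_cd {f : F[X]} (hm : f.Monic) (h0 : f.coeff 0 ≠ 0) : cd hF (cd hF f) = f := by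
  have h1 := cd_coeff_zero hF hm h0
  have hd := natDegree_cd hF h0
  ext i
  rcases le_or_gt i f.natDegree with hi | hi
  · rw [coeff_cd hF h1 (by omega), hd, coeff_cd hF h0 (by omega), coeff_cd hF h0 (Nat.zero_le _), Nat.sub_zero,
      hm.coeff_natDegree, one_pow, one_mul, mul_pow, HermStd.pow_q_q hF, inv_pow, HermStd.pow_q_q hF,
      show f.natDegree - (f.natDegree - i) = i by omega, inv_inv]
    field_simp
  · rw [coeff_eq_zero_of_natDegree_lt hi, coeff_eq_zero_of_natDegree_lt]
    rw [natDegree_cd hF h1, hd]; exact hi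

lemma cd_irreducible {f : F[X]} (hm : f.Monic) (h0 : f.coeff 0 ≠ 0) (hi : Irreducible f) :
    Irreducible (cd hF f) := by
  have h1 := cd_coeff_zero hF hm h0
  have hc := cd_monic hF h0
  refine (hc.irreducible_iff_natDegree).2 ⟨fun h => ?_, fun a b ha hb hab => ?_⟩
  · have := hi.natDegree_pos
    rw [← natDegree_cd hF h0, h, natDegree_one] at this
    omega
  · have h00 : a.coeff 0 * b.coeff 0 ≠ 0 := by rw [← mul_coeff_zero, hab]; exact h1
    obtain ⟨ha0, hb0⟩ := mul_ne_zero_iff.1 h00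
    have := congrArg (cd hF) hab
    rw [cd_mul, cd_cd hF hm h0] at this
    have h := ((hm.irreducible_iff_natDegree).1 hi).2 _ _ (cd_monic hF ha0) (cd_monic hF hb0) this
    rwa [natDegree_cd hF ha0, natDegree_cd hF hb0] at h

omit hF

/-- self-dual monic polynomials, by coefficients -/
def SD (q : ℕ) (f : F[X]) : Prop :=
  f.Monic ∧ (f.coeff 0) ^ (q + 1) = 1 ∧
    ∀ i, i ≤ f.natDegree → f.coeff i = f.coeff 0 * (f.coeff (f.natDegree - i)) ^ q

lemma SD.coeff_ne {f : F[X]} (h : SD q f) : f.coeff 0 ≠ 0 := fun h0 => by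
  have := h.2.1
  rw [h0, zero_pow (Nat.succ_ne_zero _)] at this
  exact zero_ne_one this

lemma SD_one : SD q (1 : F[X]) := by
  refine ⟨monic_one, by simp, fun i hi => ?_⟩
  rw [natDegree_one, Nat.le_zero] at hi
  subst hi
  simp

lemma eq_one_of_deg_zero {f : F[X]} (h : SD q f) (hd : f.natDegree = 0) : f = 1 :=
  eq_one_of_monic_natDegree_zero h.1 hd

include hF

lemma SD_iff {f : F[X]} (hm : f.Monic) (h0 : f.coeff 0 ≠ 0) : SD q f ↔ cd hF f = f := by
  constructor
  · intro h
    have e : f.coeff 0 = ((f.coeff 0) ^ q)⁻¹ := eq_inv_of_mul_eq_one_left (by rw [← pow_succ']; exact h.2.1)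
    ext i
    rcases le_or_gt i f.natDegree with hi | hi
    · rw [coeff_cd hF h0 hi, ← e, h.2.2 i hi, mul_comm]
    · rw [coeff_eq_zero_of_natDegree_lt hi, coeff_eq_zero_of_natDegree_lt]
      rwa [natDegree_cd hF h0]
  · intro h
    have e : f.coeff 0 = ((f.coeff 0) ^ q)⁻¹ := by
      conv_lhs => rw [← h, coeff_cd hF h0 (Nat.zero_le _), Nat.sub_zero, hm.coeff_natDegree, one_pow, one_mul]
    refine ⟨hm, ?_, fun i hi => ?_⟩
    · rw [pow_succ]
      nth_rw 2 [e]
      exact mul_inv_cancel₀ (pow_ne_zero _ h0)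
    · conv_lhs => rw [← h, coeff_cd hF h0 hi, ← e, mul_comm]

omit hF

/-- the self-dual polynomials of degree `m` as a finset -/
noncomputable def sdSet (F : Type*) [Field F] [Fintype F] (q m : ℕ) : Finset F[X] := by
  classical
  exact ((Finset.univ : Finset (Fin m → F)).image
    fun v => X ^ m + ∑ i : Fin m, C (v i) * X ^ (i : ℕ)).filter fun f => SD q f ∧ f.natDegree = m

lemma mem_sdSet {m : ℕ} {f : F[X]} : f ∈ sdSet F q m ↔ SD q f ∧ f.natDegree = m := by
  classical
  rw [sdSet, Finset.mem_filter, and_iff_right_iff_imp]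
  rintro ⟨h, rfl⟩
  refine Finset.mem_image.2 ⟨fun i => f.coeff i, Finset.mem_univ _, ?_⟩
  conv_rhs => rw [h.1.as_sum, Finset.sum_range fun i => C (f.coeff i) * X ^ i]

/-- solutions of `x ^ (q + 1) = 1` -/
noncomputable def muSet (F : Type*) [Field F] [Fintype F] (q : ℕ) : Finset F := by
  classical exact Finset.univ.filter fun x => x ^ (q + 1) = 1

lemma mem_muSet {x : F} : x ∈ muSet F q ↔ x ^ (q + 1) = 1 := by
  classical simp [muSet]

include hF

lemma card_muSet : (muSet F q).card = q + 1 := by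
  classical
  rw [← Unitary.natCard_normOne hF, ← Nat.card_eq_finsetCard]
  refine Nat.card_congr
    { toFun := fun x => ⟨Units.mk0 x.1 fun h => by simpa [h] using mem_muSet.1 x.2,
        Units.ext (by simpa using mem_muSet.1 x.2)⟩
      invFun := fun x => ⟨(x.1 : F), mem_muSet.2 (by simpa using congrArg Units.val x.2)⟩
      left_inv := fun x => rfl
      right_inv := fun x => Subtype.ext (Units.ext rfl) }

lemma card_sdSet_le (m : ℕ) : (sdSet F q m).card ≤ cu q m := by
  classical
  rcases m with _ | k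
  · rw [cu]
    refine Finset.card_le_one.2 fun a ha b hb => ?_
    rw [eq_one_of_deg_zero (mem_sdSet.1 ha).1 (mem_sdSet.1 ha).2,
      eq_one_of_deg_zero (mem_sdSet.1 hb).1 (mem_sdSet.1 hb).2]
  have hq := q_pos hF
  let L := k / 2
  let mid : (F × (Fin L → F)) → Finset F := fun x =>
    if k % 2 = 0 then {0} else Finset.univ.filter fun a => a = x.1 * a ^ q
  let B := (muSet F q ×ˢ (Finset.univ : Finset (Fin L → F))).sigma mid
  let φ : F[X] → (Σ _ : F × (Fin L → F), F) := fun f =>
    ⟨(f.coeff 0, fun i => f.coeff (i.val + 1)), if k % 2 = 0 then 0 else f.coeff (L + 1)⟩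
  have hB : B.card ≤ cu q (k + 1) := by
    have hmid : ∀ x ∈ muSet F q ×ˢ (Finset.univ : Finset (Fin L → F)), (mid x).card ≤ q ^ (k % 2) := by
      intro x hx
      have hx0 : x.1 ≠ 0 := fun h => by simpa [h] using mem_muSet.1 (Finset.mem_product.1 hx).1
      rcases Nat.mod_two_eq_zero_or_one k with hk | hk
      · simp [mid, hk]
      · simp only [mid, hk, one_ne_zero, if_false, pow_one]
        have hp : C x.1 * X ^ q - X ≠ (0 : F[X]) := fun h => by
          have := congrArg (coeff · q) h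
          simp [coeff_X, show 1 ≠ q by omega, hx0] at this
        have hdeg : (C x.1 * X ^ q - X).natDegree ≤ q :=
          (natDegree_sub_le _ _).trans (max_le (natDegree_C_mul_X_pow_le _ _) (by rw [natDegree_X]; omega))
        refine le_trans ?_ ((card_roots' _).trans hdeg)
        refine (Finset.card_le_card fun a ha => ?_).trans (Multiset.toFinset_card_le _)
        rw [Multiset.mem_toFinset, mem_roots hp, IsRoot, eval_sub, eval_mul, eval_C, eval_pow, eval_X, sub_eq_zero]
        exact (Finset.mem_filter.1 ha).2.symm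
    rw [Finset.card_sigma]
    refine (Finset.sum_le_card_nsmul _ _ _ hmid).trans (le_of_eq ?_)
    rw [Finset.card_product, card_muSet hF, Finset.card_univ, Fintype.card_fun, Fintype.card_fin, hF, smul_eq_mul,
      ← pow_mul, mul_assoc, ← pow_add, cu, show 2 * L + k % 2 = k from Nat.div_add_mod k 2]
  refine le_trans (Finset.card_le_card_of_injOn φ (fun f hf => ?_) fun f hf g hg h => ?_) hB
  · obtain ⟨hf, hd⟩ := mem_sdSet.1 hf
    simp only [B, φ, Finset.mem_coe, Finset.mem_sigma, Finset.mem_product, Finset.mem_univ, and_true, mem_muSet]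
    refine ⟨hf.2.1, ?_⟩
    by_cases hk : k % 2 = 0
    · simp [mid, hk]
    · simp only [mid, if_neg hk, Finset.mem_filter, Finset.mem_univ, true_and]
      have h2 := hf.2.2 (L + 1) (by omega)
      rwa [show f.natDegree - (L + 1) = L + 1 by omega] at h2
  · obtain ⟨hf, hdf⟩ := mem_sdSet.1 hf
    obtain ⟨hg, hdg⟩ := mem_sdSet.1 hg
    simp only [φ, Sigma.mk.injEq, Prod.mk.injEq, heq_eq_eq] at h
    obtain ⟨⟨h0, hlow⟩, hm⟩ := h
    have hle : ∀ i, 2 * i ≤ k + 1 → f.coeff i = g.coeff i := by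
      intro i hi
      rcases i with _ | j
      · exact h0
      · by_cases hj : j < L
        · exact congrFun hlow ⟨j, hj⟩
        · have hk : k % 2 ≠ 0 := by omega
          rw [if_neg hk, if_neg hk] at hm
          rw [show j = L by omega]
          exact hm
    ext i
    rcases le_or_gt i (k + 1) with hi | hi
    · by_cases h2 : 2 * i ≤ k + 1
      · exact hle i h2
      · rw [hf.2.2 i (by omega), hg.2.2 i (by omega), hdf, hdg, h0, hle (k + 1 - i) (by omega)]
    · rw [coeff_eq_zero_of_natDegree_lt (by omega), coeff_eq_zero_of_natDegree_lt (by omega)]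

omit hF

/-- the chosen root -/
noncomputable def rootSub (q : ℕ) (ζ : F) : F := by
  classical
  exact if h : ∃ s : F, s ≠ 0 ∧ s ^ (q - 1) = ζ ^ q then h.choose else 1

include hF in
lemma rootSub_spec {ζ : F} (hζ : ζ ^ (q + 1) = 1) :
    rootSub q ζ ≠ 0 ∧ ζ * rootSub q ζ ^ q = rootSub q ζ := by
  classical
  have hq := q_pos hF
  have hex : ∃ s : F, s ≠ 0 ∧ s ^ (q - 1) = ζ ^ q :=
    exists_root_sub hF (by rw [← pow_mul, mul_comm, pow_mul, hζ, one_pow])
  rw [rootSub, dif_pos hex]
  obtain ⟨h1, h2⟩ := hex.choose_spec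
  refine ⟨h1, ?_⟩
  set s := hex.choose
  rw [show s ^ q = s ^ (q - 1) * s by rw [← pow_succ, show q - 1 + 1 = q by omega], h2, ← mul_assoc,
    ← pow_succ', hζ, one_mul]

/-- multipliers of the twist -/
noncomputable def twc (q : ℕ) (ζ : F) (m i : ℕ) : F :=
  if i = m then 1 else if i = 0 then ζ else if 2 * i < m then 1 else if 2 * i = m then rootSub q ζ else ζ

/-- twist of a polynomial -/
noncomputable def tw (q : ℕ) (ζ : F) (f : F[X]) : F[X] :=
  ∑ i ∈ Finset.range (f.natDegree + 1), C (twc q ζ f.natDegree i * f.coeff i) * X ^ i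

lemma coeff_tw (ζ : F) (f : F[X]) (i : ℕ) : (tw q ζ f).coeff i = twc q ζ f.natDegree i * f.coeff i := by
  classical
  simp only [tw, finsetSum_coeff, coeff_C_mul_X_pow]
  rw [Finset.sum_ite_eq]
  split_ifs with h
  · rfl
  · rw [coeff_eq_zero_of_natDegree_lt (by simpa using h), mul_zero]

lemma natDegree_tw (ζ : F) {f : F[X]} (hf : f.Monic) : (tw q ζ f).natDegree = f.natDegree := by
  refine natDegree_eq_of_le_of_coeff_ne_zero (natDegree_sum_le_of_forall_le _ _ fun i hi => ?_) ?_
  · exact (natDegree_C_mul_X_pow_le _ _).trans (by simpa [Nat.lt_succ_iff] using hi)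
  · rw [coeff_tw, hf.coeff_natDegree, twc, if_pos rfl, mul_one]
    exact one_ne_zero

lemma tw_monic (ζ : F) {f : F[X]} (hf : f.Monic) : (tw q ζ f).Monic := by
  rw [Monic, leadingCoeff, natDegree_tw ζ hf, coeff_tw, hf.coeff_natDegree, twc, if_pos rfl, mul_one]

include hF

lemma twc_ne_zero {ζ : F} (hζ : ζ ^ (q + 1) = 1) (m i : ℕ) : twc q ζ m i ≠ 0 := by
  have h0 : ζ ≠ 0 := fun h => by simp [h] at hζ
  rw [twc]
  split_ifs <;> first | exact one_ne_zero | exact h0 | exact (rootSub_spec hF hζ).1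

lemma tw_injective {ζ : F} (hζ : ζ ^ (q + 1) = 1) {f g : F[X]} (hf : f.Monic) (hg : g.Monic)
    (h : tw q ζ f = tw q ζ g) : f = g := by
  have hd : f.natDegree = g.natDegree := by rw [← natDegree_tw ζ hf, h, natDegree_tw ζ hg]
  ext i
  have := congrArg (coeff · i) h
  simp only [coeff_tw, hd] at this
  exact mul_left_cancel₀ (twc_ne_zero hF hζ _ _) this

lemma sd_tw {ζ : F} (hζ : ζ ^ (q + 1) = 1) {f : F[X]} (hf : SD q f) (hd : 1 ≤ f.natDegree) :
    SD q (tw q ζ f) ∧ (tw q ζ f).coeff 0 = ζ * f.coeff 0 := by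
  have hq := q_pos hF
  have h00 : twc q ζ f.natDegree 0 = ζ := by rw [twc, if_neg (by omega), if_pos rfl]
  have e0 : (tw q ζ f).coeff 0 = ζ * f.coeff 0 := by rw [coeff_tw, h00]
  refine ⟨⟨tw_monic ζ hf.1, by rw [e0, mul_pow, hζ, one_mul, hf.2.1], fun i hi => ?_⟩, e0⟩
  rw [natDegree_tw ζ hf.1] at hi ⊢
  rw [e0, coeff_tw, coeff_tw, mul_pow, mul_assoc, mul_left_comm (f.coeff 0) _, ← mul_assoc, ← hf.2.2 i hi]
  congr 1
  have hζq : ζ * ζ ^ q = 1 := by rw [← pow_succ']; exact hζ
  rcases eq_or_ne i 0 with rfl | hi0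
  · rw [h00, Nat.sub_zero, twc, if_pos rfl, one_pow, mul_one]
  rcases eq_or_ne i f.natDegree with rfl | him
  · rw [Nat.sub_self, h00, twc, if_pos rfl, hζq]
  have e1 : f.natDegree - i ≠ f.natDegree := by omega
  have e2 : f.natDegree - i ≠ 0 := by omega
  simp only [twc, if_neg him, if_neg hi0, if_neg e1, if_neg e2]
  rcases lt_trichotomy (2 * i) f.natDegree with h | h | h
  · rw [if_pos h, if_neg (by omega), if_neg (by omega), hζq]
  · rw [if_neg (by omega), if_pos h, if_neg (by omega), if_pos (by omega)]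
    exact (rootSub_spec hF hζ).2.symm
  · rw [if_neg (by omega), if_neg (by omega), if_pos (by omega), one_pow, mul_one]

lemma sgc_tw {ζ : F} (hζ : ζ ^ (q + 1) = 1) {f : F[X]} (hf : SD q f) (hd : 1 ≤ f.natDegree) :
    sgc (tw q ζ f) = ζ * sgc f := by
  rw [sgc, sgc, natDegree_tw ζ hf.1, (sd_tw hF hζ hf hd).2]
  ring

/-- many self-dual polynomials with a prescribed constant term -/
lemma le_card_sd_const (k : ℕ) {a : F} (ha : a ^ (q + 1) = 1) :
    q ^ k ≤ Nat.card {f : F[X] // SD q f ∧ f.natDegree = k + 1 ∧ f.coeff 0 = a} := by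
  classical
  have hq := q_pos hF
  obtain ⟨hs0, hs⟩ := rootSub_spec hF ha
  set s := rootSub q a with hs'
  set L := k / 2 with hL
  let T : Type _ := {b : F // b ^ q = b}
  have hT : q ≤ Nat.card T := by
    have h := natCard_kerSub hF
    let ι : Option (powMonoidHom (q - 1) : Fˣ →* Fˣ).ker → T := fun o => match o with
      | none => ⟨0, zero_pow (by omega)⟩
      | some u => ⟨(u.1 : F), by
          have : (u.1 : Fˣ) ^ (q - 1) = 1 := u.2
          calc (u.1 : F) ^ q = (u.1 : F) ^ (q - 1) * u.1 := by rw [← pow_succ, show q - 1 + 1 = q by omega]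
            _ = _ := by rw [← Units.val_pow_eq_pow_val, this, Units.val_one, one_mul]⟩
    have hι : Function.Injective ι := by
      rintro (_ | u) (_ | v) huv <;> replace huv := congrArg Subtype.val huv
      · rfl
      · exact absurd huv.symm v.1.ne_zero
      · exact absurd huv u.1.ne_zero
      · exact congrArg some (Subtype.ext (Units.ext huv))
    have := Nat.card_le_card_of_injective ι hι
    rw [Finite.card_option, h] at this
    omega
  have hpq : ∀ x : F, (x ^ q) ^ q = x := HermStd.pow_q_q hF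
  have haq : a * a ^ q = 1 := by rw [← pow_succ']; exact ha
  let c : (Fin L → F) × (Fin (k % 2) → T) → ℕ → F := fun v i =>
    if i = k + 1 then 1 else if i = 0 then a else
    if h : i - 1 < L then v.1 ⟨i - 1, h⟩ else
    if h' : 0 < k % 2 ∧ 2 * i = k + 1 then s * (v.2 ⟨0, h'.1⟩).1 else
    if h'' : k + 1 - i - 1 < L then a * (v.1 ⟨k + 1 - i - 1, h''⟩) ^ q else 0
  let p : (Fin L → F) × (Fin (k % 2) → T) → F[X] := fun v =>
    ∑ i ∈ Finset.range (k + 2), C (c v i) * X ^ i
  have hc : ∀ v i, i ≤ k + 1 → (p v).coeff i = c v i := by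
    intro v i hi
    simp only [p, finsetSum_coeff, coeff_C_mul_X_pow, Finset.sum_ite_eq]
    rw [if_pos (Finset.mem_range.2 (by omega))]
  have hd : ∀ v, (p v).natDegree = k + 1 := fun v => by
    refine natDegree_eq_of_le_of_coeff_ne_zero (natDegree_sum_le_of_forall_le _ _ fun i hi => ?_) ?_
    · exact (natDegree_C_mul_X_pow_le _ _).trans (by simpa [Nat.lt_succ_iff] using hi)
    · rw [hc v _ le_rfl]; simp [c]
  have h0 : ∀ v, (p v).coeff 0 = a := fun v => by rw [hc v 0 (Nat.zero_le _)]; simp [c]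
  have hSD : ∀ v, SD q (p v) := by
    intro v
    refine ⟨?_, by rw [h0]; exact ha, fun i hi => ?_⟩
    · rw [Monic, leadingCoeff, hd, hc v _ le_rfl]; simp [c]
    rw [hd] at hi ⊢
    rw [h0, hc v i hi, hc v (k + 1 - i) (by omega)]
    rcases eq_or_ne i 0 with rfl | hi0
    · simp [c]
    rcases eq_or_ne i (k + 1) with rfl | him
    · simp only [c, if_true, Nat.sub_self]
      rw [if_neg (by omega), haq]
    simp only [c, if_neg him, if_neg hi0, if_neg (show k + 1 - i ≠ k + 1 by omega),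
      if_neg (show k + 1 - i ≠ 0 by omega)]
    rcases lt_trichotomy (2 * i) (k + 1) with h | h | h
    · rw [dif_pos (show i - 1 < L by omega), dif_neg (show ¬ k + 1 - i - 1 < L by omega),
        dif_neg (by omega), dif_pos (show k + 1 - (k + 1 - i) - 1 < L by omega), mul_pow, hpq, ← mul_assoc,
        haq, one_mul]
      simp only [show k + 1 - (k + 1 - i) = i by omega]
    · have hk : 0 < k % 2 := by omega
      rw [dif_neg (show ¬ i - 1 < L by omega), dif_pos ⟨hk, h⟩, dif_neg (show ¬ k + 1 - i - 1 < L by omega),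
        dif_pos ⟨hk, by omega⟩, mul_pow, (v.2 ⟨0, hk⟩).2, ← mul_assoc, hs]
    · rw [dif_neg (show ¬ i - 1 < L by omega), dif_neg (by omega), dif_pos (show k + 1 - i - 1 < L by omega),
        dif_pos (show k + 1 - i - 1 < L by omega)]
  haveI : Finite {f : F[X] // SD q f ∧ f.natDegree = k + 1 ∧ f.coeff 0 = a} :=
    Finite.of_injective (fun f => (⟨f.1, mem_sdSet.2 ⟨f.2.1, f.2.2.1⟩⟩ : sdSet F q (k + 1)))
      fun f g h => Subtype.ext (congrArg (fun x : sdSet F q (k + 1) => x.1) h)
  have hinj : Function.Injective fun v => (⟨p v, hSD v, hd v, h0 v⟩ :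
      {f : F[X] // SD q f ∧ f.natDegree = k + 1 ∧ f.coeff 0 = a}) := by
    intro v w h
    have e : ∀ i, i ≤ k + 1 → c v i = c w i := fun i hi => by
      rw [← hc v i hi, ← hc w i hi, show p v = p w from congrArg Subtype.val h]
    refine Prod.ext (funext fun j => ?_) (funext fun j => Subtype.ext ?_)
    · have := j.2
      have h := e (j.val + 1) (by omega)
      simp only [c, if_neg (show ¬ j.val + 1 = k + 1 by omega), if_neg (show ¬ j.val + 1 = 0 by omega),
        Nat.add_sub_cancel, dif_pos j.2] at h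
      exact h
    · obtain ⟨j, hj⟩ := j
      obtain rfl : j = 0 := by omega
      have h := e (L + 1) (by omega)
      simp only [c, if_neg (show ¬ L + 1 = k + 1 by omega), if_neg (show ¬ L + 1 = 0 by omega),
        dif_neg (show ¬ L + 1 - 1 < L by omega), dif_pos (show 0 < k % 2 ∧ 2 * (L + 1) = k + 1 by omega)] at h
      exact mul_left_cancel₀ hs0 h
  refine le_trans ?_ (Nat.card_le_card_of_injective _ hinj)
  rw [Nat.card_prod, Nat.card_fun, Nat.card_fun, Nat.card_fin, Nat.card_fin, Nat.card_eq_fintype_card, hF,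
    ← pow_mul]
  calc q ^ k = q ^ (2 * L) * q ^ (k % 2) := by rw [← pow_add, hL, Nat.div_add_mod]
    _ ≤ _ := Nat.mul_le_mul_left _ (Nat.pow_le_pow_left hT _)

end SUClassCount2481
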