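import Mathlib
import Cfsg.Agent.Lib.Classical.UnitaryConj
import Cfsg.Agent.GLClassCount.Main
import Cfsg.Agent.SUClassCount.Poly

/-!
The tuples of unitary elements are self-dual.
-/

set_option autoImplicit false
set_option linter.unusedSectionVars false

universe u

namespace SUClassCount2481

open Polynomial Module GLClassCount2478 Cfsg.Agent.Forms Cfsg.Agent.Classical

variable {F : Type u} [Field F] [Fintype F] {q n : ℕ} (hF : Fintype.card F = q ^ 2)

/-- size of the kernel of a polynomial -/
noncomputable def kc (M : Type*) [AddCommGroup M] [Module F[X] M] (h : F[X]) : ℕ :=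
  Nat.card {x : M // h • x = 0}

lemma kc_congr {M N : Type*} [AddCommGroup M] [Module F[X] M] [AddCommGroup N] [Module F[X] N]
    (E : M ≃ₗ[F[X]] N) (h : F[X]) : kc M h = kc N h :=
  Nat.card_congr (E.toEquiv.subtypeEquiv fun x => by
    show h • x = 0 ↔ h • E x = 0
    rw [← map_smul, LinearEquiv.map_eq_zero_iff])

lemma kc_assoc {M : Type*} [AddCommGroup M] [Module F[X] M] {h h' : F[X]} (he : Associated h h') :
    kc M h = kc M h' := by
  obtain ⟨u, rfl⟩ := he
  refine Nat.card_congr (Equiv.subtypeEquivRight fun x => ?_)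
  rw [mul_comm, ← smul_smul]
  exact (smul_eq_zero_iff_eq u).symm

lemma kc_pi {ι : Type*} [Fintype ι] {M : ι → Type*} [∀ i, AddCommGroup (M i)] [∀ i, Module F[X] (M i)]
    (h : F[X]) : kc (∀ i, M i) h = ∏ i, kc (M i) h := by
  unfold kc
  rw [← Nat.card_pi]
  exact Nat.card_congr ((Equiv.subtypeEquivRight fun x => by
    simp only [funext_iff, Pi.smul_apply, Pi.zero_apply]).trans
      (Equiv.subtypePiEquivPi (p := fun i (x : M i) => h • x = 0)))

lemma natCard_quot {p : F[X]} (hp : p.Monic) :
    Nat.card (F[X] ⧸ Submodule.span F[X] {p}) = Fintype.card F ^ p.natDegree := by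
  haveI : Module.Finite F (F[X] ⧸ Submodule.span F[X] {p}) := hp.finite_quotient
  rw [Module.natCard_eq_pow_finrank (K := F) (V := F[X] ⧸ Submodule.span F[X] {p}), Nat.card_eq_fintype_card]
  congr 1
  exact finrank_quotient_span_eq_natDegree

lemma kc_blk {f : F[X]} (hfm : f.Monic) (hfi : Irreducible f) {x : F[X] × ℕ} (hm : x.1.Monic)
    (hi : Irreducible x.1) (e : ℕ) [Decidable (x.1 = f)] :
    kc (blk x) (f ^ e) = Fintype.card F ^ (if x.1 = f then f.natDegree * min x.2 e else 0) := by
  obtain ⟨p, m⟩ := x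
  simp only at hm hi ⊢
  have hkill : ∀ z : F[X] ⧸ Submodule.span F[X] {p ^ m}, p ^ m • z = 0 := by
    intro z
    obtain ⟨z, rfl⟩ := Submodule.Quotient.mk_surjective _ z
    rw [← Submodule.Quotient.mk_smul, Submodule.Quotient.mk_eq_zero, Submodule.mem_span_singleton]
    exact ⟨z, by rw [smul_eq_mul, smul_eq_mul, mul_comm]⟩
  by_cases hpf : p = f
  · subst hpf
    rw [if_pos rfl]
    obtain ⟨d, hd⟩ : ∃ d, d = min m e := ⟨_, rfl⟩
    rw [← hd, mul_comm, ← natDegree_pow, ← natCard_quot (hm.pow d)]
    let φ : F[X] →ₗ[F[X]] blk (p, m) :=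
      (Submodule.span F[X] {p ^ m}).mkQ.comp (LinearMap.mulLeft F[X] (p ^ (m - d)))
    have hker : LinearMap.ker φ = Submodule.span F[X] {p ^ d} := by
      ext z
      rw [LinearMap.mem_ker]
      show (Submodule.Quotient.mk (p ^ (m - d) * z) : blk (p, m)) = 0 ↔ _
      rw [Submodule.Quotient.mk_eq_zero]
      show p ^ (m - d) * z ∈ Submodule.span F[X] {p ^ m} ↔ _
      rw [Ideal.submodule_span_eq, Ideal.submodule_span_eq, Ideal.mem_span_singleton, Ideal.mem_span_singleton]
      conv_lhs => rw [show p ^ m = p ^ (m - d) * p ^ d by rw [← pow_add, show m - d + d = m by omega]]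
      exact mul_dvd_mul_iff_left (pow_ne_zero _ hi.ne_zero)
    have hrange : ∀ z : blk (p, m), z ∈ LinearMap.range φ ↔ p ^ e • z = 0 := by
      intro z
      obtain ⟨z, rfl⟩ := Submodule.Quotient.mk_surjective _ z
      rw [← Submodule.Quotient.mk_smul, Submodule.Quotient.mk_eq_zero, smul_eq_mul]
      show _ ↔ p ^ e * z ∈ Submodule.span F[X] {p ^ m}
      refine Iff.trans ?_ (Ideal.mem_span_singleton (α := F[X])).symm
      constructor
      · rintro ⟨w, hw⟩
        have hw' : (Submodule.Quotient.mk (p ^ (m - d) * w) : blk (p, m)) = Submodule.Quotient.mk z := hw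
        rw [Submodule.Quotient.eq] at hw'
        have hw'' : p ^ m ∣ p ^ (m - d) * w - z := by
          rw [← Ideal.mem_span_singleton, ← Ideal.submodule_span_eq]; exact hw'
        have h1 : p ^ m ∣ p ^ e * (p ^ (m - d) * w) := by
          rw [← mul_assoc, ← pow_add]
          exact dvd_mul_of_dvd_left (pow_dvd_pow p (by omega)) _
        have h2 := dvd_sub h1 (dvd_mul_of_dvd_right hw'' (p ^ e))
        rwa [← mul_sub, sub_sub_cancel] at h2
      · intro h
        rcases le_total m e with hme | hme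
        · refine ⟨z, ?_⟩
          show Submodule.Quotient.mk (p ^ (m - d) * z) = _
          rw [show m - d = 0 by omega, pow_zero, one_mul]
        · rw [show p ^ m = p ^ e * p ^ (m - e) by rw [← pow_add, show e + (m - e) = m by omega],
            mul_dvd_mul_iff_left (pow_ne_zero _ hi.ne_zero)] at h
          obtain ⟨w, rfl⟩ := h
          refine ⟨w, ?_⟩
          show Submodule.Quotient.mk (p ^ (m - d) * w) = _
          rw [show m - d = m - e by omega]
    rw [kc, ← hker]
    exact (Nat.card_congr (φ.quotKerEquivRange.toEquiv.trans (Equiv.subtypeEquivRight hrange))).symm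
  · rw [if_neg hpf, pow_zero, kc, Nat.card_eq_one_iff_unique]
    have hco : IsCoprime (f ^ e) (p ^ m) :=
      ((hfi.coprime_iff_not_dvd).2 fun h => hpf (eq_of_monic_of_associated hm hfm
        (hfi.associated_of_dvd hi h).symm)).pow
    obtain ⟨a, b, hab⟩ := hco
    refine ⟨⟨fun z w => Subtype.ext ?_⟩, ⟨⟨0, smul_zero _⟩⟩⟩
    have hz : ∀ z : blk (p, m), f ^ e • z = 0 → z = 0 := fun z hz => by
      rw [← one_smul F[X] z, ← hab, add_smul, ← smul_smul, ← smul_smul, hz,
        show p ^ m • z = 0 from hkill z, smul_zero, smul_zero, add_zero]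
    rw [hz z.1 z.2, hz w.1 w.2]

lemma aeval_mulVec (g : GL (Fin n) F) (h : F[X]) (v : Fin n → F) :
    h • Module.AEval'.of (Matrix.toLin' (g : Matrix (Fin n) (Fin n) F)) v =
      Module.AEval'.of (Matrix.toLin' (g : Matrix (Fin n) (Fin n) F))
        ((aeval (g : Matrix (Fin n) (Fin n) F) h).mulVec v) := by
  rw [← Matrix.toLin'_apply]
  show _ = Module.AEval'.of _ ((Matrix.toLinAlgEquiv' (aeval (g : Matrix (Fin n) (Fin n) F) h)) v)
  rw [← aeval_algHom_apply Matrix.toLinAlgEquiv' (g : Matrix (Fin n) (Fin n) F) h]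
  exact (Module.AEval.of_aeval_smul (Matrix.toLin' (g : Matrix (Fin n) (Fin n) F)) h v).symm

lemma kc_modOf (g : GL (Fin n) F) (h : F[X]) :
    kc (modOf g) h = Fintype.card F ^ (n - (aeval (g : Matrix (Fin n) (Fin n) F) h).rank) := by
  set M := aeval (g : Matrix (Fin n) (Fin n) F) h with hM
  have e : Nat.card {v : Fin n → F // M.mulVec v = 0} = kc (modOf g) h :=
    Nat.card_congr ((Module.AEval'.of (Matrix.toLin' (g : Matrix (Fin n) (Fin n) F))).toEquiv.subtypeEquiv fun v => by
      show _ ↔ h • Module.AEval'.of _ v = 0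
      rw [aeval_mulVec, LinearEquiv.map_eq_zero_iff])
  rw [← e, show Nat.card {v : Fin n → F // M.mulVec v = 0} = Nat.card (LinearMap.ker M.mulVecLin) from
    Nat.card_congr (Equiv.subtypeEquivRight fun v => (LinearMap.mem_ker (f := M.mulVecLin) (y := v)).symm),
    Module.natCard_eq_pow_finrank (K := F), Nat.card_eq_fintype_card]
  congr 1
  have h1 := M.mulVecLin.finrank_range_add_finrank_ker
  rw [Module.finrank_fin_fun] at h1
  rw [Matrix.rank]
  omega

include hF

lemma rank_adj (M : Matrix (Fin n) (Fin n) F) : (UnitaryConj.adj hF M).rank = M.rank := by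
  rw [UnitaryConj.adj, Matrix.rank_transpose]
  have e : Nat.card (LinearMap.ker (M.map (HermStd.qHom hF)).mulVecLin) = Nat.card (LinearMap.ker M.mulVecLin) := by
    let σ : (Fin n → F) ≃ (Fin n → F) :=
      { toFun := fun v => HermStd.qHom hF ∘ v
        invFun := fun v => HermStd.qHom hF ∘ v
        left_inv := fun v => funext fun i => HermStd.qHom_qHom hF (v i)
        right_inv := fun v => funext fun i => HermStd.qHom_qHom hF (v i) }
    refine (Nat.card_congr (σ.subtypeEquiv fun v => ?_)).symm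
    show v ∈ LinearMap.ker M.mulVecLin ↔ HermStd.qHom hF ∘ v ∈ LinearMap.ker (M.map (HermStd.qHom hF)).mulVecLin
    rw [LinearMap.mem_ker, LinearMap.mem_ker, Matrix.mulVecLin_apply, Matrix.mulVecLin_apply]
    have hm : (M.map (HermStd.qHom hF)).mulVec (HermStd.qHom hF ∘ v) = HermStd.qHom hF ∘ M.mulVec v :=
      funext fun i => ((HermStd.qHom hF).map_mulVec M v i).symm
    rw [hm]
    exact ⟨fun h => by rw [h]; exact funext fun i => map_zero _,
      fun h => funext fun i => (HermStd.qHom hF).injective ((congrFun h i).trans (map_zero _).symm)⟩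
  rw [Module.natCard_eq_pow_finrank (K := F) (V := LinearMap.ker M.mulVecLin),
    Module.natCard_eq_pow_finrank (K := F) (V := LinearMap.ker (M.map (HermStd.qHom hF)).mulVecLin)] at e
  have h := Nat.pow_right_injective (show 2 ≤ Nat.card F from Finite.one_lt_card) e
  have h1 := M.mulVecLin.finrank_range_add_finrank_ker
  have h2 := (M.map (HermStd.qHom hF)).mulVecLin.finrank_range_add_finrank_ker
  rw [Matrix.rank, Matrix.rank]
  omega

lemma adj_aeval (M : Matrix (Fin n) (Fin n) F) (h : F[X]) :
    UnitaryConj.adj hF (aeval M h) = aeval (UnitaryConj.adj hF M) (h.map (HermStd.qHom hF)) := by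
  induction h using Polynomial.induction_on with
  | C a => rw [aeval_C, Polynomial.map_C, aeval_C, UnitaryConj.adj_algebraMap, HermStd.qHom_apply]
  | add a b ha hb => rw [map_add, UnitaryConj.adj_add, ha, hb, Polynomial.map_add, map_add]
  | monomial k a ih =>
    rw [pow_succ, ← mul_assoc, map_mul, UnitaryConj.adj_mul, ih, aeval_X]
    generalize C a * X ^ k = p
    rw [Polynomial.map_mul, Polynomial.map_X, mul_comm (p.map _) X, map_mul, aeval_X]

lemma kc_dual {g : GL (Fin n) F} (hg : g ∈ Cfsg.GU n F q) (h : F[X]) :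
    kc (modOf g) h = kc (modOf g) (h.map (HermStd.qHom hF)).reverse := by
  rw [kc_modOf, kc_modOf]
  congr 2
  rw [← rank_adj hF (aeval (g : Matrix (Fin n) (Fin n) F) h), adj_aeval]
  have hu := (UnitaryConj.mem_GU_iff hF g).1 hg
  set G := (g : Matrix (Fin n) (Fin n) F)
  set A := UnitaryConj.adj hF G
  set p := h.map (HermStd.qHom hF)
  have hGA : G * A = 1 := mul_eq_one_comm.1 hu
  have key : aeval A p * G ^ p.natDegree = aeval G p.reverse := by
    have hd : p.reverse.natDegree < p.natDegree + 1 := Nat.lt_succ_of_le (reverse_natDegree_le p)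
    rw [aeval_eq_sum_range' (lt_add_one p.natDegree), aeval_eq_sum_range' hd, Finset.sum_mul,
      ← Finset.sum_range_reflect (fun i => p.reverse.coeff i • G ^ i)]
    refine Finset.sum_congr rfl fun i hi => ?_
    have hi' : i ≤ p.natDegree := Nat.lt_succ_iff.1 (Finset.mem_range.1 hi)
    rw [Nat.add_sub_cancel, coeff_reverse, revAt_le (Nat.sub_le _ _),
      show p.natDegree - (p.natDegree - i) = i by omega, smul_mul_assoc]
    congr 1
    conv_lhs => rw [show p.natDegree = i + (p.natDegree - i) by omega, pow_add, ← mul_assoc,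
      ← (Commute.mul_pow (show Commute A G from hu.trans hGA.symm) i), hu, one_pow, one_mul]
  rw [← key, Matrix.rank_mul_eq_left_of_isUnit_det]
  exact (Matrix.isUnit_iff_isUnit_det _).1 (g.isUnit.pow _)

/-- the tuple of a unitary element is self-dual -/
lemma sd_tuple {g : GL (Fin n) F} (hg : g ∈ Cfsg.GU n F q) {ι : Type u} [Fintype ι] {P : ι → F[X] × ℕ}
    (hP : ∀ i, (P i).1.Monic ∧ Irreducible (P i).1 ∧ 1 ≤ (P i).2 ∧ (P i).1.coeff 0 ≠ 0)
    (E : modOf g ≃ₗ[F[X]] (∀ i, blk (P i))) (k : ℕ) :
    SD q (∏ i ∈ Finset.univ.filter (fun i => (P i).2 = k), (P i).1) := by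
  classical
  have hm : (∏ i ∈ Finset.univ.filter (fun i => (P i).2 = k), (P i).1).Monic :=
    monic_prod_of_monic _ _ fun i _ => (hP i).1
  have h0 : (∏ i ∈ Finset.univ.filter (fun i => (P i).2 = k), (P i).1).coeff 0 ≠ 0 := by
    rw [coeff_zero_eq_eval_zero, eval_prod, Finset.prod_ne_zero_iff]
    intro i _
    rw [← coeff_zero_eq_eval_zero]
    exact (hP i).2.2.2
  rw [SD_iff hF hm h0, cd_prod hF]
  let S : F[X] → ℕ → ℕ := fun f e => ∑ i, if (P i).1 = f then min (P i).2 e else 0
  have hS : ∀ f : F[X], f.Monic → Irreducible f → f.coeff 0 ≠ 0 → ∀ e, S (cd hF f) e = S f e := by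
    intro f hf hi h0 e
    have h := kc_dual hF hg (f ^ e)
    have hrev : ∀ e : ℕ, ((f ^ e).map (HermStd.qHom hF)).reverse = ((f.map (HermStd.qHom hF)).reverse) ^ e := by
      intro e
      induction e with
      | zero => rw [pow_zero, pow_zero, Polynomial.map_one, ← C_1, reverse_C]
      | succ e ih => rw [pow_succ, Polynomial.map_mul, reverse_mul_of_domain, ih, ← pow_succ]
    rw [hrev, kc_assoc (h := ((f.map (HermStd.qHom hF)).reverse) ^ e) (h' := cd hF f ^ e)
      ((normalize_associated _).symm.pow_pow), kc_congr E, kc_congr E, kc_pi, kc_pi,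
      Finset.prod_congr rfl (fun i _ => kc_blk hf hi (hP i).1 (hP i).2.1 e),
      Finset.prod_congr rfl (fun i _ => kc_blk (cd_monic hF h0) (cd_irreducible hF hf h0 hi) (hP i).1 (hP i).2.1 e),
      Finset.prod_pow_eq_pow_sum, Finset.prod_pow_eq_pow_sum] at h
    have h' := Nat.pow_right_injective Fintype.one_lt_card h
    refine Nat.eq_of_mul_eq_mul_left hi.natDegree_pos ?_
    simp only [S, Finset.mul_sum]
    refine Eq.trans ?_ (h'.symm.trans ?_)
    · refine Finset.sum_congr rfl fun i _ => ?_
      rw [natDegree_cd hF h0]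
      split_ifs <;> simp
    · refine Finset.sum_congr rfl fun i _ => ?_
      split_ifs <;> simp
  let T : F[X] → ℕ → ℕ := fun f e => (Finset.univ.filter fun i => (P i).1 = f ∧ e < (P i).2).card
  have hstep : ∀ f e, S f (e + 1) = S f e + T f e := by
    intro f e
    simp only [S, T, Finset.card_filter, ← Finset.sum_add_distrib]
    refine Finset.sum_congr rfl fun i _ => ?_
    by_cases h : (P i).1 = f
    · simp only [h, true_and, if_true]
      split_ifs <;> omega
    · simp [h]
  have hT : ∀ f : F[X], f.Monic → Irreducible f → f.coeff 0 ≠ 0 → ∀ e, T (cd hF f) e = T f e := by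
    intro f hf hi h0 e
    have h1 := hS f hf hi h0 e
    have h2 := hS f hf hi h0 (e + 1)
    rw [hstep, hstep] at h2
    omega
  have hcount : ∀ f : F[X], f.Monic → Irreducible f → f.coeff 0 ≠ 0 →
      (Finset.univ.filter fun i => (P i).2 = k ∧ (P i).1 = cd hF f).card =
        (Finset.univ.filter fun i => (P i).2 = k ∧ (P i).1 = f).card := by
    intro f hf hi hf0
    rcases k with _ | e
    · have : ∀ g', (Finset.univ.filter fun i => (P i).2 = 0 ∧ (P i).1 = g') = ∅ := fun g' =>
        Finset.filter_eq_empty_iff.2 fun i _ h => by have := (hP i).2.2.1; omega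
      rw [this, this]
    have hsplit : ∀ g', T g' e = (Finset.univ.filter fun i => (P i).2 = e + 1 ∧ (P i).1 = g').card + T g' (e + 1) := by
      intro g'
      simp only [T, Finset.card_filter, ← Finset.sum_add_distrib]
      refine Finset.sum_congr rfl fun i _ => ?_
      by_cases h : (P i).1 = g'
      · simp only [h, true_and, and_true]
        split_ifs <;> omega
      · simp [h]
    have h1 := hsplit f
    have h2 := hsplit (cd hF f)
    have h3 := hT f hf hi hf0 e
    have h4 := hT f hf hi hf0 (e + 1)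
    omega
  simp only [Finset.prod_eq_multiset_prod, Finset.filter_val]
  congr 1
  ext a
  rw [Multiset.count_map, Multiset.count_map]
  simp only [Multiset.filter_filter]
  rw [← Finset.filter_val, ← Finset.filter_val, ← Finset.card_def, ← Finset.card_def]
  by_cases ha : a.Monic ∧ Irreducible a ∧ a.coeff 0 ≠ 0
  · refine Eq.trans ?_ ((hcount a ha.1 ha.2.1 ha.2.2).trans ?_)
    · congr 1
      refine Finset.filter_congr fun i _ => ⟨fun h => ⟨h.2, ?_⟩, fun h => ⟨?_, h.1⟩⟩
      · rw [h.1, cd_cd hF (hP i).1 (hP i).2.2.2]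
      · rw [h.2, cd_cd hF ha.1 ha.2.2]
    · congr 1
      exact Finset.filter_congr fun i _ => ⟨fun h => ⟨h.2.symm, h.1⟩, fun h => ⟨h.2, h.1.symm⟩⟩
  · rw [Finset.filter_eq_empty_iff.2 fun i _ h => ha ?_, Finset.filter_eq_empty_iff.2 fun i _ h => ha ?_]
    · rw [h.1]; exact ⟨(hP i).1, (hP i).2.1, (hP i).2.2.2⟩
    · rw [h.1]; exact ⟨cd_monic hF (hP i).2.2.2, cd_irreducible hF (hP i).1 (hP i).2.2.2 (hP i).2.1,
        cd_coeff_zero hF (hP i).1 (hP i).2.2.2⟩

end SUClassCount2481
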