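import Mathlib
import Cfsg.Agent.Lib.Classical.UnitaryConj
import Cfsg.Agent.GLClassCount.SLFibre
import Cfsg.Agent.SUClassCount.Poly
import Cfsg.Agent.S2588

/-!
Classes of `SU(n, q)` inside a class of `GL(n, q ^ 2)`.
-/

set_option autoImplicit false
set_option linter.unusedSectionVars false

universe u

namespace SUClassCount2481

open Polynomial Module GLClassCount2478 Cfsg.Agent.Forms Cfsg.Agent.Classical

variable {F : Type u} [Field F] [Fintype F] {q n : ℕ} (hF : Fintype.card F = q ^ 2)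

include hF

/-- the twisted automorphism fixing exactly the unitary group -/
noncomputable def theta : GL (Fin n) F →* GL (Fin n) F where
  toFun g := (UnitaryConj.isUnit_adj hF g.isUnit).unit⁻¹
  map_one' := inv_eq_one.2 (Units.ext (UnitaryConj.adj_one hF))
  map_mul' a b := by
    rw [← mul_inv_rev]
    exact congrArg (·⁻¹) (Units.ext (UnitaryConj.adj_mul hF (a : Matrix (Fin n) (Fin n) F) b))

lemma val_theta_inv (g : GL (Fin n) F) :
    (((theta hF g)⁻¹ : GL (Fin n) F) : Matrix (Fin n) (Fin n) F) = UnitaryConj.adj hF (g : Matrix (Fin n) (Fin n) F) := by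
  show ((((UnitaryConj.isUnit_adj hF g.isUnit).unit⁻¹)⁻¹ : GL (Fin n) F) : Matrix (Fin n) (Fin n) F) = _
  rw [inv_inv]
  rfl

lemma mem_iff (g : GL (Fin n) F) : g ∈ Cfsg.GU n F q ↔ theta hF g = g := by
  rw [UnitaryConj.mem_GU_iff hF, ← val_theta_inv hF, ← Units.val_mul, Units.val_eq_one, inv_mul_eq_one]

lemma theta_theta (g : GL (Fin n) F) : theta hF (theta hF g) = g := by
  have h : (theta hF (theta hF g)⁻¹)⁻¹ = g :=
    Units.ext (by rw [val_theta_inv, val_theta_inv, UnitaryConj.adj_adj])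
  rw [map_inv, inv_inv] at h
  exact h

lemma det_theta (g : GL (Fin n) F) :
    Matrix.GeneralLinearGroup.det (theta hF g) = (Matrix.GeneralLinearGroup.det g ^ q)⁻¹ := by
  rw [← inv_inj, inv_inv, ← map_inv]
  refine Units.ext ?_
  rw [Units.val_pow_eq_pow_val]
  show (((theta hF g)⁻¹ : GL (Fin n) F) : Matrix (Fin n) (Fin n) F).det = (g : Matrix (Fin n) (Fin n) F).det ^ q
  rw [val_theta_inv, UnitaryConj.adj, Matrix.det_transpose, ← HermStd.qHom_apply hF, RingHom.map_det]
  rfl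

/-- the unitary part of an invertible matrix -/
lemma exists_polar (h : GL (Fin n) F) :
    ∃ y : GL (Fin n) F, theta hF (h * y⁻¹) = h * y⁻¹ ∧
      (∀ z, Commute z ((theta hF h)⁻¹ * h) → Commute z y) ∧ Commute y (theta hF y) ∧
      (theta hF y)⁻¹ * y = (theta hF h)⁻¹ * h := by
  obtain ⟨H, hH⟩ : ∃ H, H = (theta hF h)⁻¹ * h := ⟨_, rfl⟩
  have hθH : theta hF H = H⁻¹ := by rw [hH, map_mul, map_inv, theta_theta, mul_inv_rev, inv_inv]
  have hherm : UnitaryConj.adj hF (H : Matrix (Fin n) (Fin n) F) = (H : Matrix (Fin n) (Fin n) F) := by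
    rw [← val_theta_inv, hθH, inv_inv]
  obtain ⟨y, hy, hyH⟩ := UnitaryConj.exists_root hF (H : Matrix (Fin n) (Fin n) F) H.isUnit hherm
  have hyH' : (theta hF y)⁻¹ * y = H := Units.ext (by rw [Units.val_mul, val_theta_inv]; exact hyH)
  have hcomm : ∀ z, Commute z H → Commute z y := fun z hz =>
    Units.ext (hy (z : Matrix (Fin n) (Fin n) F) (congrArg Units.val hz.eq)).eq
  have hyy : Commute y H := (hcomm H (Commute.refl H)).symm
  have hty : Commute (theta hF y) H := by
    have : Commute (theta hF y) (theta hF H) := hyy.map (theta hF)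
    rw [hθH] at this
    exact Commute.inv_right_iff.1 this
  refine ⟨y, ?_, ?_, (hcomm _ hty).symm, by rw [hyH', hH]⟩
  · have e1 : theta hF h = h * H⁻¹ := by rw [hH]; group
    have e2 : theta hF y = y * H⁻¹ := by rw [← hyH']; group
    rw [map_mul, map_inv, e1, e2]
    group
  · rw [← hH]; exact hcomm

/-- unitary elements conjugate in the linear group are conjugate by a unitary element -/
lemma exists_unitary_conj {g₁ g₂ h : GL (Fin n) F} (h1 : g₁ ∈ Cfsg.GU n F q) (h2 : g₂ ∈ Cfsg.GU n F q)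
    (hc : h * g₁ * h⁻¹ = g₂) : ∃ u ∈ Cfsg.GU n F q, u * g₁ * u⁻¹ = g₂ := by
  obtain ⟨y, hy, hyc, -, -⟩ := exists_polar hF h
  have h3 : theta hF h * g₁ * (theta hF h)⁻¹ = g₂ := by
    have := congrArg (theta hF) hc
    rwa [map_mul, map_mul, map_inv, (mem_iff hF g₁).1 h1, (mem_iff hF g₂).1 h2] at this
  have hcomm : Commute g₁ ((theta hF h)⁻¹ * h) := by
    rw [mul_inv_eq_iff_eq_mul] at hc h3
    show _ = _
    rw [mul_assoc _ h, hc, ← mul_assoc, ← mul_assoc]
    congr 1
    rw [eq_inv_mul_iff_mul_eq, ← mul_assoc, h3, mul_assoc, mul_inv_cancel, mul_one]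
  refine ⟨h * y⁻¹, (mem_iff hF _).2 hy, ?_⟩
  calc h * y⁻¹ * g₁ * (h * y⁻¹)⁻¹ = h * (y⁻¹ * g₁ * y) * h⁻¹ := by group
    _ = _ := by rw [mul_assoc y⁻¹, (hyc g₁ hcomm).eq, inv_mul_cancel_left, hc]

/-- determinants of the unitary centraliser -/
lemma exists_unitary_centralizer {g : GL (Fin n) F} (hg : g ∈ Cfsg.GU n F q) {z : GL (Fin n) F}
    (hz : Commute z g) : ∃ u ∈ Cfsg.GU n F q, Commute u g ∧
      Matrix.GeneralLinearGroup.det u = Matrix.GeneralLinearGroup.det z ^ (q - 1) := by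
  have hq := q_pos hF
  obtain ⟨y, hy, hyc, hyt, hyH⟩ := exists_polar hF z
  have hθ := (mem_iff hF g).1 hg
  have hzg : Commute (theta hF z) g := by
    have := hz.map (theta hF)
    rwa [hθ] at this
  have hyg : Commute y g := (hyc g ((hzg.symm.inv_right).mul_right hz.symm)).symm
  have htg : Commute (theta hF y) g := by
    have := hyg.map (theta hF)
    rwa [hθ] at this
  obtain ⟨u₁, hu₁⟩ : ∃ u₁, u₁ = z * y⁻¹ := ⟨_, rfl⟩
  obtain ⟨w, hw⟩ : ∃ w, w = (theta hF y)⁻¹ * y⁻¹ := ⟨_, rfl⟩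
  have hθw : theta hF w = w := by
    rw [hw, map_mul, map_inv, map_inv, theta_theta]
    exact (hyt.inv_inv).eq
  refine ⟨u₁ ^ (q - 1) * w, (mem_iff hF _).2 ?_, ?_, ?_⟩
  · rw [map_mul, map_pow, hθw, hu₁, hy]
  · rw [hu₁, hw]
    exact ((hz.mul_left hyg.inv_left).pow_left _).mul_left (htg.inv_left.mul_left hyg.inv_left)
  · obtain ⟨i, hi⟩ : ∃ i, q = i + 1 := ⟨q - 1, by omega⟩
    subst hi
    rw [hu₁, hw, map_mul, map_pow, map_mul, map_mul, map_inv, map_inv, det_theta, inv_inv, Nat.add_sub_cancel,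
      pow_succ, mul_inv_cancel_right, mul_pow, inv_pow, inv_mul_cancel_right]

omit hF

/-- conjugate matrices give isomorphic modules -/
lemma nonempty_iso_of_conj {g g' h : GL (Fin n) F} (hc : h * g * h⁻¹ = g') :
    Nonempty (modOf g ≃ₗ[F[X]] modOf g') := by
  let a := Module.AEval'.of (Matrix.toLin' (g : Matrix (Fin n) (Fin n) F))
  let b := Module.AEval'.of (Matrix.toLin' (g' : Matrix (Fin n) (Fin n) F))
  have h1 : (g' : Matrix (Fin n) (Fin n) F) * h = (h : Matrix (Fin n) (Fin n) F) * g :=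
    congrArg Units.val (mul_inv_eq_iff_eq_mul.1 hc).symm
  let φ : (Fin n → F) ≃ₗ[F] (Fin n → F) :=
    { Matrix.mulVecLin (h : Matrix (Fin n) (Fin n) F) with
      invFun := fun v => ((h⁻¹ : GL (Fin n) F) : Matrix (Fin n) (Fin n) F).mulVec v
      left_inv := fun v => by
        show Matrix.mulVec _ (Matrix.mulVec (h : Matrix (Fin n) (Fin n) F) v) = v
        rw [Matrix.mulVec_mulVec, Units.inv_mul, Matrix.one_mulVec]
      right_inv := fun v => by
        show Matrix.mulVec (h : Matrix (Fin n) (Fin n) F) (Matrix.mulVec _ v) = v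
        rw [Matrix.mulVec_mulVec, Units.mul_inv, Matrix.one_mulVec] }
  let e : modOf g ≃ₗ[F] modOf g' := a.symm.trans (φ.trans b)
  have he : ∀ v, e (a v) = b ((h : Matrix (Fin n) (Fin n) F).mulVec v) := fun v => by
    show b (φ (a.symm (a v))) = _
    rw [LinearEquiv.symm_apply_apply]
    rfl
  have hX : ∀ x, e ((X : F[X]) • x) = (X : F[X]) • e x := by
    intro x
    obtain ⟨v, rfl⟩ := a.surjective x
    show e (X • Module.AEval'.of (Matrix.toLin' (g : Matrix (Fin n) (Fin n) F)) v) = _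
    rw [Module.AEval'.X_smul_of]
    show e (a _) = _
    rw [he, he]
    show _ = X • Module.AEval'.of (Matrix.toLin' (g' : Matrix (Fin n) (Fin n) F)) _
    rw [Module.AEval'.X_smul_of, Matrix.toLin'_apply, Matrix.toLin'_apply, Matrix.mulVec_mulVec,
      Matrix.mulVec_mulVec, h1]
  have hall : ∀ (p : F[X]) x, e (p • x) = p • e x := by
    intro p
    induction p using Polynomial.induction_on with
    | C c => intro x; rw [← Polynomial.algebraMap_eq, algebraMap_smul, map_smul, algebraMap_smul]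
    | add p r hp hr => intro x; rw [add_smul, map_add, hp, hr, add_smul]
    | monomial k c ih => intro x; rw [pow_succ, ← mul_assoc, ← smul_smul, ih, hX, smul_smul]
  exact ⟨{ e with map_smul' := hall }⟩

/-- the special unitary group to the linear group -/
abbrev suGL (n : ℕ) (F : Type u) [Field F] (q : ℕ) : Cfsg.SU n F q →* GL (Fin n) F :=
  Matrix.SpecialLinearGroup.toGL.comp (Cfsg.SU n F q).subtype

lemma suGL_mem (x : Cfsg.SU n F q) : suGL n F q x ∈ Cfsg.GU n F q := x.2

lemma det_suGL (x : Cfsg.SU n F q) : Matrix.GeneralLinearGroup.det (suGL n F q x) = 1 :=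
  Units.ext x.1.2

include hF

/-- number of classes of `SU` over one class of `GL` -/
lemma fibre_le {e : ℕ} (g : Cfsg.SU n F q)
    (hz : ∀ c : Fˣ, ∃ z : GL (Fin n) F, z * suGL n F q g = suGL n F q g * z ∧
      Matrix.GeneralLinearGroup.det z = c ^ e) :
    Nat.card {x : ConjClasses (Cfsg.SU n F q) //
      ConjClasses.map (suGL n F q) x = ConjClasses.mk (suGL n F q g)} ≤ Nat.gcd e (q + 1) := by
  classical
  set G := suGL n F q g with hG
  have hGU := suGL_mem g
  let M : Subgroup Fˣ := (powMonoidHom (q + 1) : Fˣ →* Fˣ).ker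
  have hdM : ∀ u ∈ Cfsg.GU n F q, Matrix.GeneralLinearGroup.det u ∈ M := by
    intro u hu
    show Matrix.GeneralLinearGroup.det u ^ (q + 1) = 1
    have h := congrArg Matrix.GeneralLinearGroup.det ((mem_iff hF u).1 hu)
    rw [det_theta] at h
    rw [pow_succ, ← inv_inv (Matrix.GeneralLinearGroup.det u ^ q), h, inv_mul_cancel]
  have hex : ∀ x : {x : ConjClasses (Cfsg.SU n F q) // ConjClasses.map (suGL n F q) x = ConjClasses.mk G},
      ∃ (y : Cfsg.SU n F q) (h : GL (Fin n) F), ConjClasses.mk y = x.1 ∧ h ∈ Cfsg.GU n F q ∧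
        h * G * h⁻¹ = suGL n F q y := by
    rintro ⟨x, hx⟩
    obtain ⟨y, rfl⟩ := ConjClasses.mk_surjective x
    obtain ⟨h, hh⟩ := isConj_iff.1 (ConjClasses.mk_eq_mk_iff_isConj.1 hx.symm)
    obtain ⟨u, hu, huc⟩ := exists_unitary_conj hF hGU (suGL_mem y) hh
    exact ⟨y, u, rfl, hu, huc⟩
  choose y h hy hh hconj using hex
  let R : Subgroup M := (powMonoidHom e : M →* M).range
  have hinj : Function.Injective fun x =>
      (QuotientGroup.mk (⟨Matrix.GeneralLinearGroup.det (h x), hdM _ (hh x)⟩ : M) : M ⧸ R) := by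
    intro a b hab
    obtain ⟨m, hm⟩ := QuotientGroup.eq.1 hab
    have hm' : (m : Fˣ) ^ e = (Matrix.GeneralLinearGroup.det (h a))⁻¹ * Matrix.GeneralLinearGroup.det (h b) :=
      congrArg (fun t : M => (t : Fˣ)) hm
    obtain ⟨c, hc⟩ : ∃ c : Fˣ, c ^ (q - 1) = m := by
      have hm0 : (m : Fˣ) ∈ (powMonoidHom (q + 1) : Fˣ →* Fˣ).ker := m.2
      rw [← range_powSub hF] at hm0
      exact hm0
    obtain ⟨z, hz1, hz2⟩ := hz c
    obtain ⟨u, hu, huc, hud⟩ := exists_unitary_centralizer hF hGU (show Commute z G from hz1)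
    have hd : Matrix.GeneralLinearGroup.det (h b * u⁻¹ * (h a)⁻¹) = 1 := by
      rw [map_mul, map_mul, map_inv, map_inv, hud, hz2, ← pow_mul, mul_comm e, pow_mul, hc, hm', mul_inv_rev,
        inv_inv]
      group
    have hmem : h b * u⁻¹ * (h a)⁻¹ ∈ Cfsg.GU n F q :=
      mul_mem (mul_mem (hh b) (inv_mem hu)) (inv_mem (hh a))
    obtain ⟨s, hs⟩ : ∃ s : Cfsg.SU n F q, suGL n F q s = h b * u⁻¹ * (h a)⁻¹ :=
      ⟨⟨⟨((h b * u⁻¹ * (h a)⁻¹ : GL (Fin n) F) : Matrix (Fin n) (Fin n) F), congrArg Units.val hd⟩, hmem⟩,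
        Units.ext rfl⟩
    apply Subtype.ext
    rw [← hy a, ← hy b, ConjClasses.mk_eq_mk_iff_isConj, isConj_iff]
    refine ⟨s, Subtype.ext (Matrix.SpecialLinearGroup.toGL_injective ?_)⟩
    show suGL n F q (s * y a * s⁻¹) = suGL n F q (y b)
    rw [map_mul, map_mul, map_inv, hs, ← hconj a, ← hconj b]
    have huG : u⁻¹ * G * u = G := by rw [mul_assoc, ← huc.eq, inv_mul_cancel_left]
    calc h b * u⁻¹ * (h a)⁻¹ * (h a * G * (h a)⁻¹) * (h b * u⁻¹ * (h a)⁻¹)⁻¹
        = h b * (u⁻¹ * G * u) * (h b)⁻¹ := by group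
      _ = h b * G * (h b)⁻¹ := by rw [huG]
  refine (Nat.card_le_card_of_injective _ hinj).trans (le_of_eq ?_)
  show R.index = _
  haveI : Finite M := inferInstance
  have h1 := R.index_mul_card
  have h2 := (powMonoidHom e : M →* M).ker.index_mul_card
  rw [Subgroup.index_ker, ← h1, mul_comm] at h2
  rw [← Nat.eq_of_mul_eq_mul_right Nat.card_pos h2, IsCyclic.card_powMonoidHom_ker,
    Unitary.natCard_normOne hF, Nat.gcd_comm]

/-- the classes of regular semisimple type give the lower bound -/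
theorem le_card_SU (k : ℕ) : q ^ k ≤ Nat.card (ConjClasses (Cfsg.SU (k + 1) F q)) := by
  classical
  refine (le_card_sd_const hF k (a := (-1 : F) ^ (k + 1))
    (by rw [← pow_mul, mul_comm, pow_mul, neg_one_norm hF, one_pow])).trans ?_
  have hex : ∀ f : {f : F[X] // SD q f ∧ f.natDegree = k + 1 ∧ f.coeff 0 = (-1) ^ (k + 1)},
      ∃ x : Cfsg.SU (k + 1) F q, (suGL _ F q x : Matrix (Fin (k + 1)) (Fin (k + 1)) F).charpoly = f.1 := by
    rintro ⟨f, hSD, hdeg, hc0⟩
    obtain ⟨A, o, ho, hA, hAc⟩ := SemisimpleConj.exists_matrix (k + 1) f hdeg hSD.1 hSD.coeff_ne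
    have ho0 : o ≠ 0 := fun h => ho (by rw [h, Nat.cast_zero])
    obtain ⟨a, rfl⟩ := IsUnit.of_pow_eq_one hA ho0
    have hao : a ^ o = 1 := Units.ext (by rw [Units.val_pow_eq_pow_val, hA]; rfl)
    have hmat : (theta hF a : Matrix (Fin (k + 1)) (Fin (k + 1)) F) = (UnitaryConj.adj hF (a : Matrix (Fin (k + 1)) (Fin (k + 1)) F))⁻¹ := by
      rw [← val_theta_inv hF, Matrix.coe_units_inv, Matrix.nonsing_inv_nonsing_inv]
      exact (Matrix.isUnit_iff_isUnit_det _).1 (theta hF a).isUnit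
    have hdet : IsUnit (UnitaryConj.adj hF (a : Matrix (Fin (k + 1)) (Fin (k + 1)) F)).det :=
      (Matrix.isUnit_iff_isUnit_det _).1 (UnitaryConj.isUnit_adj hF a.isUnit)
    have hchar : (theta hF a : Matrix (Fin (k + 1)) (Fin (k + 1)) F).charpoly = f := by
      rw [hmat]
      refine Eq.trans ?_ ((SD_iff hF hSD.1 hSD.coeff_ne).1 hSD)
      refine eq_of_monic_of_associated (Matrix.charpoly_monic _) (cd_monic hF hSD.coeff_ne) ?_
      refine Associated.trans ?_ (normalize_associated _).symm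
      rw [Matrix.charpoly_inv _ (UnitaryConj.isUnit_adj hF a.isUnit), ← Matrix.reverse_charpoly, UnitaryConj.adj, Matrix.charpoly_transpose,
        Matrix.charpoly_map, hAc]
      refine associated_unit_mul_left _ _ ?_
      refine (((isUnit_one (M := F[X])).neg.pow _).mul (isUnit_C.2 ?_))
      have hd2 := Matrix.isUnit_nonsing_inv_det _ hdet
      rwa [Matrix.det_nonsing_inv] at hd2
    obtain ⟨c, hc⟩ := SemisimpleConj.exists_matrix_conj (a : Matrix (Fin (k + 1)) (Fin (k + 1)) F)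
      (theta hF a : Matrix (Fin (k + 1)) (Fin (k + 1)) F) ho hA
      (by rw [← Units.val_pow_eq_pow_val, ← map_pow, hao, map_one, Units.val_one]) (hAc.trans hchar.symm)
    obtain ⟨⟨B, hB⟩, hBa⟩ := (Cfsg.Agent.S2588.result hF a).2 ⟨c, by rw [hmat] at hc; exact hc⟩
    have hBc : (B : Matrix (Fin (k + 1)) (Fin (k + 1)) F).charpoly = f := by
      obtain ⟨d, hd⟩ := isConj_iff.1 hBa
      simp only at hd
      rw [← hd, Units.val_mul, Units.val_mul, Matrix.coe_units_inv, Matrix.charpoly_units_conj, hAc]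
    have hBd : (B : Matrix (Fin (k + 1)) (Fin (k + 1)) F).det = 1 := by
      rw [Matrix.det_eq_sign_charpoly_coeff, Fintype.card_fin, hBc, hc0, ← mul_pow, neg_one_mul, neg_neg, one_pow]
    exact ⟨⟨⟨(B : Matrix (Fin (k + 1)) (Fin (k + 1)) F), hBd⟩, hB⟩, hBc⟩
  choose x hx using hex
  refine Nat.card_le_card_of_injective (fun f => ConjClasses.mk (x f)) fun f g h => ?_
  obtain ⟨c, hc⟩ := isConj_iff.1 (ConjClasses.mk_eq_mk_iff_isConj.1 h)
  apply Subtype.ext
  rw [← hx f, ← hx g, ← hc, map_mul, map_mul, map_inv, Units.val_mul, Units.val_mul, Matrix.coe_units_inv,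
    Matrix.charpoly_units_conj]

end SUClassCount2481
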