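import Mathlib
import Cfsg.Agent.GLClassCount.SLCount
import Cfsg.Agent.SUClassCount.Arith
import Cfsg.Agent.SUClassCount.Dual
import Cfsg.Agent.SUClassCount.Group

/-!
The upper bound for the number of classes of `SU(n, q)`.
-/

set_option autoImplicit false
set_option linter.unusedSectionVars false

universe u

namespace SUClassCount2481

open Polynomial GLClassCount2478 Cfsg.Agent.Forms

variable {F : Type u} [Field F] [Fintype F] {q : ℕ} (hF : Fintype.card F = q ^ 2)

/-- self-dual tuples with trivial first entry and parts in the allowed set -/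
noncomputable def restSD (F : Type u) [Field F] [Fintype F] (q : ℕ) (a : ℕ → Bool) :
    (j : ℕ) → ℕ → Finset (Fin (j + 1) → F[X])
  | 0, i => by
    classical
    exact if i = 0 then {fun _ => 1} else ∅
  | j + 1, i => by
    classical
    exact if a (j + 2) then (Finset.range (i / (j + 2) + 1)).biUnion fun m =>
      ((sdSet F q m) ×ˢ (restSD F q a j (i - (j + 2) * m))).image fun x => Fin.snoc x.2 x.1
    else (restSD F q a j i).image fun w => Fin.snoc w 1

include hF in
lemma card_restSD_le (a : ℕ → Bool) : ∀ j i, (restSD F q a j i).card ≤ rc q a j i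
  | 0, i => by
    simp only [restSD, rc]
    split_ifs <;> simp
  | j + 1, i => by
    classical
    rw [restSD, rc]
    split_ifs with h
    · refine Finset.card_biUnion_le.trans (Finset.sum_le_sum fun m _ => ?_)
      refine Finset.card_image_le.trans ?_
      rw [Finset.card_product]
      exact Nat.mul_le_mul (card_sdSet_le hF m) (card_restSD_le a j _)
    · exact Finset.card_image_le.trans (card_restSD_le a j i)

lemma mem_restSD (a : ℕ → Bool) : ∀ (j : ℕ) (v : Fin (j + 1) → F[X]), (∀ i, SD q (v i)) → v 0 = 1 →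
    (∀ i : Fin (j + 1), a ((i : ℕ) + 1) = false → v i = 1) →
    v ∈ restSD F q a j (∑ i : Fin (j + 1), ((i : ℕ) + 1) * (v i).natDegree)
  | 0, v, _, h1, _ => by
    classical
    rw [restSD, if_pos (by simp [h1]), Finset.mem_singleton]
    funext i
    rw [show i = 0 from Fin.ext (by have := i.2; omega), h1]
  | j + 1, v, hv, h1, ha => by
    classical
    rw [restSD]
    have hm := mem_restSD a j (Fin.init v) (fun i => hv i.castSucc) h1 (fun i hi => ha i.castSucc hi)
    split_ifs with h
    · simp only [Finset.mem_biUnion, Finset.mem_range, Finset.mem_image, Finset.mem_product]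
      refine ⟨(v (Fin.last (j + 1))).natDegree, ?_, (v (Fin.last (j + 1)), Fin.init v),
        ⟨mem_sdSet.2 ⟨hv _, rfl⟩, ?_⟩, Fin.snoc_init_self v⟩
      · rw [Nat.lt_succ_iff, Nat.le_div_iff_mul_le (Nat.succ_pos (j + 1)), Fin.sum_univ_castSucc, Fin.val_last,
          mul_comm (v (Fin.last (j + 1))).natDegree]
        exact Nat.le_add_left _ _
      · rw [Fin.sum_univ_castSucc, Fin.val_last, Nat.add_sub_cancel]
        exact hm
    · have hl : v (Fin.last (j + 1)) = 1 := ha _ (by simpa [Fin.val_last] using h)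
      refine Finset.mem_image.2 ⟨Fin.init v, ?_, by rw [← hl]; exact Fin.snoc_init_self v⟩
      rw [Fin.sum_univ_castSucc, hl, natDegree_one, mul_zero, add_zero]
      exact hm

variable {e : ℕ}

/-- weight of a degree pattern -/
def wt (d : Fin (e + 2) → ℕ) : ℕ := ∑ k : Fin (e + 2), ((k : ℕ) + 1) * d k

/-- the occupied index to be twisted -/
noncomputable def pick (d : Fin (e + 2) → ℕ) : Fin (e + 2) := by
  classical
  exact if d 0 ≠ 0 then 0 else if d 1 ≠ 0 then 1 else
    if h : ∃ k : Fin (e + 2), d k ≠ 0 ∧ ¬ 3 ∣ (k : ℕ) + 1 then h.choose else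
    if h : ∃ k : Fin (e + 2), d k ≠ 0 then h.choose else 0

lemma pick_spec {d : Fin (e + 2) → ℕ} (hd : wt d = e + 2) : d (pick d) ≠ 0 := by
  classical
  rw [pick]
  split_ifs with h0 h1 h2 h3
  · exact h0
  · exact h1
  · exact h2.choose_spec.1
  · exact h3.choose_spec
  · push Not at h3
    rw [wt, Finset.sum_eq_zero fun k _ => by rw [h3 k, mul_zero]] at hd
    omega

lemma pick_zero {d : Fin (e + 2) → ℕ} (h : d 0 ≠ 0) : (pick d : ℕ) = 0 := by
  classical
  rw [pick, if_pos h]; rfl

lemma pick_one {d : Fin (e + 2) → ℕ} (h0 : d 0 = 0) (h : d 1 ≠ 0) : (pick d : ℕ) = 1 := by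
  classical
  rw [pick, if_neg (not_not.2 h0), if_pos h]
  simp

lemma pick_not_dvd {d : Fin (e + 2) → ℕ} (h : ∃ k : Fin (e + 2), d k ≠ 0 ∧ ¬ 3 ∣ (k : ℕ) + 1) :
    ¬ 3 ∣ (pick d : ℕ) + 1 := by
  classical
  rw [pick]
  split_ifs with h0 h1
  · simp
  · simp
  · exact h.choose_spec.2

/-- the size of a fibre over a tuple -/
noncomputable def gw (q : ℕ) (u : Fin (e + 2) → F[X]) : ℕ :=
  Nat.gcd ((pick fun k => (u k).natDegree : ℕ) + 1) (q + 1)

lemma gw_le (u : Fin (e + 2) → F[X]) : gw q u ≤ q + 1 := Nat.le_of_dvd (Nat.succ_pos q) (Nat.gcd_dvd_right _ _)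

/-- tuples with non-trivial first entry -/
noncomputable def firstSD (F : Type u) [Field F] [Fintype F] (q e : ℕ) : Finset (Fin (e + 2) → F[X]) := by
  classical
  exact (Finset.range (e + 2)).biUnion fun i => (restSD F q allP (e + 1) i).biUnion fun r =>
    (sdSet F q (e + 2 - i)).image fun p => Function.update r 0 p

include hF in
lemma card_firstSD_le : (firstSD F q e).card ≤
    ∑ i ∈ Finset.range (e + 2), rc q allP (e + 1) i * cu q (e + 2 - i) := by
  classical
  refine Finset.card_biUnion_le.trans (Finset.sum_le_sum fun i _ => ?_)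
  refine Finset.card_biUnion_le.trans ((Finset.sum_le_card_nsmul _ _ (cu q (e + 2 - i)) fun r _ =>
    Finset.card_image_le.trans (card_sdSet_le hF _)).trans ?_)
  rw [smul_eq_mul]
  exact Nat.mul_le_mul_right _ (card_restSD_le hF _ _ _)

/-- all self-dual tuples of weight `n` -/
noncomputable def allSD (F : Type u) [Field F] [Fintype F] (q e : ℕ) : Finset (Fin (e + 2) → F[X]) := by
  classical
  exact firstSD F q e ∪ restSD F q allP (e + 1) (e + 2)

lemma mem_allSD {u : Fin (e + 2) → F[X]} (hu : ∀ k, SD q (u k)) (hw : wt (fun k => (u k).natDegree) = e + 2) :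
    u ∈ allSD F q e := by
  classical
  rw [allSD, Finset.mem_union]
  rw [wt] at hw
  by_cases h0 : u 0 = 1
  · refine Or.inr ?_
    have h := mem_restSD allP (e + 1) u hu h0 (fun i hi => by simp [allP] at hi)
    rwa [hw] at h
  · refine Or.inl ?_
    set r := Function.update u 0 1 with hr
    have hrp : ∀ i, SD q (r i) := fun i => by
      by_cases hi : i = 0
      · subst hi; rw [hr, Function.update_self]; exact SD_one
      · rw [hr, Function.update_of_ne hi]; exact hu i
    have hrm := mem_restSD allP (e + 1) r hrp (by simp [hr]) (fun i hi => by simp [allP] at hi)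
    have hd : 0 < (u 0).natDegree := Nat.pos_of_ne_zero fun h => h0 (eq_one_of_deg_zero (hu 0) h)
    rw [Fin.sum_univ_succ, Fin.val_zero, zero_add, one_mul] at hw
    have hwr : ∑ i : Fin (e + 2), ((i : ℕ) + 1) * (r i).natDegree = e + 2 - (u 0).natDegree := by
      rw [Fin.sum_univ_succ]
      simp only [hr, Function.update_self, Function.update_of_ne (Fin.succ_ne_zero _), natDegree_one, mul_zero,
        zero_add]
      omega
    rw [hwr] at hrm
    simp only [firstSD, Finset.mem_biUnion, Finset.mem_range, Finset.mem_image]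
    exact ⟨_, by omega, r, hrm, u 0, mem_sdSet.2 ⟨hu 0, by omega⟩, by simp [hr]⟩

lemma prop_allSD {u : Fin (e + 2) → F[X]} (hu : u ∈ firstSD F q e) : 0 < (u 0).natDegree := by
  classical
  simp only [firstSD, Finset.mem_biUnion, Finset.mem_range, Finset.mem_image] at hu
  obtain ⟨i, hi, r, -, p, hp, rfl⟩ := hu
  rw [Function.update_self, (mem_sdSet.1 hp).2]
  omega

lemma restSD_prop (a : ℕ → Bool) : ∀ (j i : ℕ) (u : Fin (j + 1) → F[X]), u ∈ restSD F q a j i →
    (∀ k, SD q (u k)) ∧ u 0 = 1 ∧ ∑ k : Fin (j + 1), ((k : ℕ) + 1) * (u k).natDegree = i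
  | 0, i, u, h => by
    classical
    rw [restSD] at h
    split_ifs at h with hi
    · rw [Finset.mem_singleton] at h
      subst h
      exact ⟨fun _ => SD_one, rfl, by simp [hi]⟩
    · exact absurd h (Finset.notMem_empty _)
  | j + 1, i, u, h => by
    classical
    have key : ∀ (p : F[X]) (w : Fin (j + 1) → F[X]) (i' : ℕ), SD q p → w ∈ restSD F q a j i' →
        u = Fin.snoc w p → i' + (j + 2) * p.natDegree = i →
        (∀ k, SD q (u k)) ∧ u 0 = 1 ∧ ∑ k : Fin (j + 2), ((k : ℕ) + 1) * (u k).natDegree = i := by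
      intro p w i' hp hw hu hi
      obtain ⟨h1, h2, h3⟩ := restSD_prop a j i' w hw
      subst hu
      refine ⟨fun k => ?_, ?_, ?_⟩
      · refine Fin.lastCases ?_ (fun k => ?_) k
        · rw [Fin.snoc_last]; exact hp
        · rw [Fin.snoc_castSucc]; exact h1 k
      · rw [← h2, ← Fin.castSucc_zero, Fin.snoc_castSucc]
      · rw [Fin.sum_univ_castSucc]
        simp only [Fin.snoc_castSucc, Fin.snoc_last, Fin.val_last, Fin.val_castSucc]
        rw [show j + 1 + 1 = j + 2 from rfl]
        omega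
    rw [restSD] at h
    split_ifs at h
    · simp only [Finset.mem_biUnion, Finset.mem_range, Finset.mem_image, Finset.mem_product] at h
      obtain ⟨m, hm, x, ⟨hx1, hx2⟩, rfl⟩ := h
      refine key _ _ _ (mem_sdSet.1 hx1).1 hx2 rfl ?_
      rw [(mem_sdSet.1 hx1).2]
      have : m * (j + 2) ≤ i := (Nat.le_div_iff_mul_le (by omega)).1 (Nat.lt_succ_iff.1 hm)
      rw [mul_comm] at this
      omega
    · obtain ⟨w, hw, rfl⟩ := Finset.mem_image.1 h
      exact key 1 w i SD_one hw rfl (by simp)

/-- the weighted total for `q ≥ 3` -/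
lemma sum_gw_three (hq : 3 ≤ q) (hcard : ∀ a j i, (restSD F q a j i).card ≤ rc q a j i)
    (hfirst : (firstSD F q e).card ≤ ∑ i ∈ Finset.range (e + 2), rc q allP (e + 1) i * cu q (e + 2 - i)) :
    ∑ u ∈ allSD F q e, gw q u ^ 2 ≤
      ∑ i ∈ Finset.range (e + 2), rc q allP (e + 1) i * cu q (e + 2 - i) + 4 * rc q allP (e + 1) (e + 2) +
        (q + 1) ^ 2 * rc q geP (e + 1) (e + 2) := by
  classical
  rw [allSD]
  refine ((Nat.le_add_right _ _).trans (Finset.sum_union_inter (s₁ := firstSD F q e)).le).trans ?_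
  rw [add_assoc]
  refine Nat.add_le_add ((Finset.sum_le_card_nsmul _ _ 1 fun u hu => ?_).trans (by simpa using hfirst)) ?_
  · have h := prop_allSD hu
    simp [gw, pick_zero (d := fun k => (u k).natDegree) (by omega)]
  calc ∑ u ∈ restSD F q allP (e + 1) (e + 2), gw q u ^ 2
      ≤ ∑ u ∈ restSD F q allP (e + 1) (e + 2),
          (4 + if u ∈ restSD F q geP (e + 1) (e + 2) then (q + 1) ^ 2 else 0) := by
        refine Finset.sum_le_sum fun u hu => ?_
        obtain ⟨h1, h2, h3⟩ := restSD_prop allP (e + 1) (e + 2) u hu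
        by_cases h : u 1 = 1
        · rw [if_pos]
          · exact (Nat.pow_le_pow_left (gw_le u) 2).trans (Nat.le_add_left _ _)
          · have hm := mem_restSD geP (e + 1) u h1 h2
            rw [h3] at hm
            refine hm fun i hi => ?_
            simp only [geP, decide_eq_false_iff_not] at hi
            rcases (show (i : ℕ) = 0 ∨ (i : ℕ) = 1 by omega) with hi' | hi'
            · rw [show i = 0 from Fin.ext hi', h2]
            · rw [show i = 1 from Fin.ext (by simpa using hi'), h]
        · refine le_trans ?_ (Nat.le_add_right _ _)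
          have hd : (u 1).natDegree ≠ 0 := fun h' => h (eq_one_of_deg_zero (h1 1) h')
          rw [gw, pick_one (d := fun k => (u k).natDegree) (by simp [h2]) hd]
          exact Nat.pow_le_pow_left (Nat.le_of_dvd (by omega) (Nat.gcd_dvd_left _ _)) 2
    _ = 4 * (restSD F q allP (e + 1) (e + 2)).card + (q + 1) ^ 2 *
          ((restSD F q allP (e + 1) (e + 2)).filter fun u => u ∈ restSD F q geP (e + 1) (e + 2)).card := by
        rw [Finset.sum_add_distrib, ← Finset.sum_filter, Finset.sum_const, Finset.sum_const, smul_eq_mul,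
          smul_eq_mul, mul_comm (Finset.card _) 4, mul_comm (Finset.card _) ((q + 1) ^ 2)]
    _ ≤ _ := by
        refine Nat.add_le_add (Nat.mul_le_mul_left _ (hcard _ _ _)) (Nat.mul_le_mul_left _ ?_)
        exact (Finset.card_le_card fun u hu => (Finset.mem_filter.1 hu).2).trans (hcard _ _ _)

/-- the weighted total for `q = 2` -/
lemma sum_gw_two (hcard : ∀ a j i, (restSD F 2 a j i).card ≤ rc 2 a j i)
    (hfirst : (firstSD F 2 e).card ≤ ∑ i ∈ Finset.range (e + 2), rc 2 allP (e + 1) i * cu 2 (e + 2 - i)) :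
    ∑ u ∈ allSD F 2 e, gw 2 u ^ 2 ≤
      ∑ i ∈ Finset.range (e + 2), rc 2 allP (e + 1) i * cu 2 (e + 2 - i) + rc 2 allP (e + 1) (e + 2) +
        8 * rc 2 threeP (e + 1) (e + 2) := by
  classical
  rw [allSD]
  refine ((Nat.le_add_right _ _).trans (Finset.sum_union_inter (s₁ := firstSD F 2 e)).le).trans ?_
  rw [add_assoc]
  refine Nat.add_le_add ((Finset.sum_le_card_nsmul _ _ 1 fun u hu => ?_).trans (by simpa using hfirst)) ?_
  · have h := prop_allSD hu
    simp [gw, pick_zero (d := fun k => (u k).natDegree) (by omega)]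
  calc ∑ u ∈ restSD F 2 allP (e + 1) (e + 2), gw 2 u ^ 2
      ≤ ∑ u ∈ restSD F 2 allP (e + 1) (e + 2),
          (1 + if u ∈ restSD F 2 threeP (e + 1) (e + 2) then 8 else 0) := by
        refine Finset.sum_le_sum fun u hu => ?_
        obtain ⟨h1, h2, h3⟩ := restSD_prop allP (e + 1) (e + 2) u hu
        by_cases h : ∃ k : Fin (e + 2), (u k).natDegree ≠ 0 ∧ ¬ 3 ∣ (k : ℕ) + 1
        · refine le_trans ?_ (Nat.le_add_right _ _)
          have hk := pick_not_dvd (d := fun k => (u k).natDegree) h
          rw [gw, Nat.Coprime.gcd_eq_one ((Nat.prime_three.coprime_iff_not_dvd.2 hk).symm), one_pow]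
        · rw [if_pos]
          · exact (Nat.pow_le_pow_left (gw_le u) 2).trans (by norm_num)
          · have hm := mem_restSD threeP (e + 1) u h1 h2
            rw [h3] at hm
            refine hm fun i hi => ?_
            simp only [threeP, decide_eq_false_iff_not] at hi
            push Not at h
            exact eq_one_of_deg_zero (h1 i) (by by_contra h'; exact hi (h i h'))
    _ = (restSD F 2 allP (e + 1) (e + 2)).card + 8 *
          ((restSD F 2 allP (e + 1) (e + 2)).filter fun u => u ∈ restSD F 2 threeP (e + 1) (e + 2)).card := by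
        rw [Finset.sum_add_distrib, ← Finset.sum_filter, Finset.sum_const, Finset.sum_const, smul_eq_mul,
          smul_eq_mul, mul_one, mul_comm (Finset.card _) 8]
    _ ≤ _ := by
        refine Nat.add_le_add (hcard _ _ _) (Nat.mul_le_mul_left _ ?_)
        exact (Finset.card_le_card fun u hu => (Finset.mem_filter.1 hu).2).trans (hcard _ _ _)

include hF

/-- the classes are bounded by the weighted self-dual tuples -/
theorem card_SU_le : (q + 1) * Nat.card (ConjClasses (Cfsg.SU (e + 2) F q)) ≤ ∑ u ∈ allSD F q e, gw q u ^ 2 := by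
  classical
  haveI : Fintype (ConjClasses (GL (Fin (e + 2)) F)) := Fintype.ofFinite _
  obtain ⟨v, hinj, hv⟩ := exists_SL_tuples (F := F) (e + 1)
  let π : ConjClasses (Cfsg.SU (e + 2) F q) → ConjClasses (GL (Fin (e + 2)) F) :=
    ConjClasses.map (suGL (e + 2) F q)
  let S : Finset (Fin (e + 2) → F[X]) := (allSD F q e).filter fun u =>
    tdet u = 1 ∧ (∀ k, SD q (u k)) ∧ wt (fun k => (u k).natDegree) = e + 2
  have hfib : ∀ C, Nat.card {x // π x = C} ≤ if v C ∈ S then gw q (v C) else 0 := by
    intro C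
    rcases isEmpty_or_nonempty {x // π x = C} with h | ⟨⟨x, hx⟩⟩
    · rw [Nat.card_of_isEmpty]; exact Nat.zero_le _
    obtain ⟨-, hw, hdet, -, g, ι, hι, P, hgC, hP, ⟨E⟩, hvP⟩ := hv C
    obtain ⟨y, rfl⟩ := ConjClasses.mk_surjective x
    have hy : ConjClasses.mk (suGL (e + 2) F q y) = C := hx
    obtain ⟨h, hh⟩ := isConj_iff.1 (ConjClasses.mk_eq_mk_iff_isConj.1 (hy.trans hgC.symm))
    obtain ⟨E'⟩ := nonempty_iso_of_conj hh
    have hsd : ∀ k, SD q (v C k) := fun k => by
      rw [hvP k]
      convert sd_tuple hF (suGL_mem y) hP (E'.trans E) ((k : ℕ) + 1)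
    have hwt : wt (fun k => (v C k).natDegree) = e + 2 := hw
    have hS : v C ∈ S := Finset.mem_filter.2 ⟨mem_allSD hsd hwt,
      hdet (ConjClasses.mk y.1) hy, hsd, hwt⟩
    rw [if_pos hS]
    have hpk := pick_spec hwt
    set k := pick fun k => (v C k).natDegree with hk
    obtain ⟨j, hj⟩ : ∃ j, (P j).2 = (k : ℕ) + 1 := by
      by_contra hno
      push Not at hno
      refine hpk ?_
      rw [hvP k, Finset.prod_eq_one fun j hj => absurd (Finset.mem_filter.1 hj).2 (hno j), natDegree_one]
    rw [gw, ← hk, ← hj, ← hy]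
    refine fibre_le hF y fun c => (det_of_iso hP (E'.trans E)).2 j c
  have hcard : Nat.card (ConjClasses (Cfsg.SU (e + 2) F q)) ≤ ∑ u ∈ S, gw q u := by
    have hsplit : Nat.card (ConjClasses (Cfsg.SU (e + 2) F q)) = ∑ C, Nat.card {x // π x = C} := by
      rw [← Nat.card_sigma]; exact (Nat.card_congr (Equiv.sigmaFiberEquiv π)).symm
    rw [hsplit]
    calc ∑ C, Nat.card {x // π x = C} ≤ ∑ C, if v C ∈ S then gw q (v C) else 0 :=
          Finset.sum_le_sum fun C _ => hfib C
      _ = ∑ u ∈ (Finset.univ.filter fun C => v C ∈ S).image v, gw q u := by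
          rw [← Finset.sum_filter, Finset.sum_image fun _ _ _ _ h => hinj h]
      _ ≤ _ := Finset.sum_le_sum_of_subset fun u hu => by
          obtain ⟨C, hC, rfl⟩ := Finset.mem_image.1 hu
          exact (Finset.mem_filter.1 hC).2
  refine (Nat.mul_le_mul_left _ hcard).trans ?_
  let k : (Fin (e + 2) → F[X]) → Fin (e + 2) := fun u => pick fun k => (u k).natDegree
  let φ : (Fin (e + 2) → F[X]) × F → (Fin (e + 2) → F[X]) := fun x =>
    Function.update x.1 (k x.1) (tw q x.2 (x.1 (k x.1)))
  have hdeg : ∀ u ζ, (∀ i, SD q (u i)) → (fun i => (φ (u, ζ) i).natDegree) = fun i => (u i).natDegree := by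
    intro u ζ hu
    funext i
    by_cases hi : i = k u
    · subst hi; simp only [φ, Function.update_self]; exact natDegree_tw ζ (hu _).1
    · simp only [φ, Function.update_of_ne hi]
  have hfacts : ∀ x ∈ S ×ˢ muSet F q, (∀ i, SD q (x.1 i)) ∧ x.2 ^ (q + 1) = 1 ∧
      (∀ i, SD q (φ x i)) ∧ φ x ∈ allSD F q e ∧ gw q (φ x) = gw q x.1 ∧ k (φ x) = k x.1 ∧
      tdet (φ x) = x.2 ^ ((k x.1 : ℕ) + 1) := by
    rintro ⟨u, ζ⟩ hx
    rw [Finset.mem_product] at hx
    obtain ⟨-, h1, hu, hw⟩ := Finset.mem_filter.1 hx.1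
    have hζ := mem_muSet.1 hx.2
    have hpos : 1 ≤ (u (k u)).natDegree := Nat.one_le_iff_ne_zero.2 (pick_spec hw)
    have hd := hdeg u ζ hu
    have hsd : ∀ i, SD q (φ (u, ζ) i) := fun i => by
      by_cases hi : i = k u
      · subst hi; simp only [φ, Function.update_self]; exact (sd_tw hF hζ (hu _) hpos).1
      · simp only [φ, Function.update_of_ne hi]; exact hu i
    refine ⟨hu, hζ, hsd, mem_allSD hsd (by rw [hd]; exact hw), by simp only [gw, hd], by simp only [k, hd], ?_⟩
    have hp : ∀ i, sgc (φ (u, ζ) i) ^ ((i : ℕ) + 1) =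
        (if i = k u then ζ ^ ((i : ℕ) + 1) else 1) * sgc (u i) ^ ((i : ℕ) + 1) := by
      intro i
      by_cases hi : i = k u
      · subst hi
        simp only [φ, Function.update_self, if_true, ← mul_pow, sgc_tw hF hζ (hu _) hpos]
      · simp only [φ, Function.update_of_ne hi, if_neg hi, one_mul]
    rw [tdet, Finset.prod_congr rfl fun i _ => hp i, Finset.prod_mul_distrib,
      Finset.prod_ite_eq' _ (k u), if_pos (Finset.mem_univ _)]
    rw [tdet] at h1
    rw [h1, mul_one]
  have hinner : ∀ u' ∈ allSD F q e, ((S ×ˢ muSet F q).filter fun x => φ x = u').card ≤ gw q u' := by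
    intro u' _
    rcases ((S ×ˢ muSet F q).filter fun x => φ x = u').eq_empty_or_nonempty with h | ⟨x₀, hx₀⟩
    · rw [h, Finset.card_empty]; exact Nat.zero_le _
    obtain ⟨hx₀, hx₀'⟩ := Finset.mem_filter.1 hx₀
    have hG : 0 < gw q u' := Nat.gcd_pos_of_pos_right _ (Nat.succ_pos q)
    have hcardR : (nthRootsFinset (gw q u') (1 : F)).card ≤ gw q u' := by
      rw [nthRootsFinset_def]
      exact (Multiset.toFinset_card_le _).trans (card_nthRoots _ _)
    refine le_trans (Finset.card_le_card_of_injOn (fun x => x.2 / x₀.2) (fun x hx => ?_)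
      fun x hx x' hx' h => ?_) hcardR
    · obtain ⟨hx, hx'⟩ := Finset.mem_filter.1 hx
      obtain ⟨-, hζ, -, -, hg, hk, ht⟩ := hfacts x hx
      obtain ⟨-, hζ₀, -, -, -, hk₀, ht₀⟩ := hfacts x₀ hx₀
      have hne : x₀.2 ≠ 0 := fun h => by simp [h] at hζ₀
      rw [Finset.mem_coe, mem_nthRootsFinset hG]
      rw [hx'] at hk ht
      rw [hx₀'] at hk₀ ht₀
      show (x.2 / x₀.2) ^ gw q u' = 1
      refine pow_gcd_eq_one.2 ⟨?_, by rw [div_pow, hζ, hζ₀, div_one]⟩
      have e1 : x.2 ^ ((k u' : ℕ) + 1) = x₀.2 ^ ((k u' : ℕ) + 1) := by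
        rw [hk, ← ht, ← hk, hk₀, ← ht₀]
      rw [div_pow, e1, div_self (pow_ne_zero _ hne)]
    · obtain ⟨hx, hxu⟩ := Finset.mem_filter.1 hx
      obtain ⟨hx', hxu'⟩ := Finset.mem_filter.1 hx'
      obtain ⟨hu, hζ, -, -, -, hk, -⟩ := hfacts x hx
      obtain ⟨hu', hζ', -, -, -, hk', -⟩ := hfacts x' hx'
      obtain ⟨-, hζ₀, -⟩ := hfacts x₀ hx₀
      have hne : x₀.2 ≠ 0 := fun h => by simp [h] at hζ₀
      have h2 : x.2 = x'.2 := (div_left_inj' hne).1 h
      refine Prod.ext (funext fun i => ?_) h2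
      rw [hxu] at hk
      rw [hxu'] at hk'
      have he := congrFun (hxu.trans hxu'.symm) i
      simp only [φ, ← hk, ← hk', ← h2] at he
      by_cases hi : i = k u'
      · subst hi
        rw [Function.update_self, Function.update_self] at he
        exact tw_injective hF hζ (hu _).1 (hu' _).1 he
      · rwa [Function.update_of_ne hi, Function.update_of_ne hi] at he
  calc (q + 1) * ∑ u ∈ S, gw q u = ∑ x ∈ S ×ˢ muSet F q, gw q x.1 := by
        rw [Finset.sum_product, Finset.mul_sum]
        refine Finset.sum_congr rfl fun u _ => ?_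
        simp only [Finset.sum_const, card_muSet hF, smul_eq_mul]
    _ = ∑ x ∈ S ×ˢ muSet F q, gw q (φ x) := Finset.sum_congr rfl fun x hx => (hfacts x hx).2.2.2.2.1.symm
    _ = ∑ u' ∈ allSD F q e, ∑ x ∈ (S ×ˢ muSet F q).filter (fun x => φ x = u'), gw q u' :=
        (Finset.sum_fiberwise_of_maps_to' (fun x hx => (hfacts x hx).2.2.2.1) (fun u' => gw q u')).symm
    _ ≤ _ := Finset.sum_le_sum fun u' hu' => by
        rw [Finset.sum_const, smul_eq_mul, sq]
        exact Nat.mul_le_mul_right _ (hinner u' hu')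

/-- the upper bound -/
theorem card_SU_bound : 100 * Nat.card (ConjClasses (Cfsg.SU (e + 2) F q)) ≤ 826 * q ^ (e + 1) := by
  refine Nat.le_of_mul_le_mul_left ?_ (show 0 < q + 1 by omega)
  have h := card_SU_le hF (e := e)
  rcases (q_pos hF).eq_or_lt with rfl | hq
  · have h2 := total_le_two (show 2 ≤ e + 2 by omega)
    have h3 := sum_gw_two (F := F) (e := e) (fun a j i => card_restSD_le hF a j i) (card_firstSD_le hF)
    simp only [show e + 2 - 1 = e + 1 by omega] at h2
    calc (2 + 1) * (100 * _) = 100 * ((2 + 1) * _) := by ring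
      _ ≤ 826 * ((2 + 1) * 2 ^ (e + 1)) := (Nat.mul_le_mul_left _ (h.trans h3)).trans h2
      _ = _ := by ring
  · have h2 := total_le_three (q := q) hq (show 1 ≤ e + 2 by omega)
    have h3 := sum_gw_three (F := F) (e := e) hq (fun a j i => card_restSD_le hF a j i) (card_firstSD_le hF)
    simp only [show e + 2 - 1 = e + 1 by omega] at h2
    calc (q + 1) * (100 * _) = 100 * ((q + 1) * _) := by ring
      _ ≤ 826 * ((q + 1) * q ^ (e + 1)) := (Nat.mul_le_mul_left _ (h.trans h3)).trans h2
      _ = _ := by ring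

end SUClassCount2481
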